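import Groth.Agent.Fano.K714.RatDef

/-!
# Degenerate rational quartics on a cubic threefold: definitions

* `bf c j`: the `j`-th coordinate of a parametrised curve over a ring as a binary form.
-/

set_option autoImplicit false
universe u

namespace Groth.Agent.Fano.K51.DegDef

/-- The `j`-th coordinate of the parametrised curve with coefficient vectors `c` over a ring. -/
noncomputable def bf {R : Type*} [CommRing R] {d : ℕ} (c : Fin (d + 1) → Fin 5 → R) (j : Fin 5) :
    MvPolynomial (Fin 2) R :=
  ∑ m : Fin (d + 1), MvPolynomial.C (c m j) *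
    (MvPolynomial.X 0 ^ (d - (m : ℕ)) * MvPolynomial.X 1 ^ (m : ℕ))

end Groth.Agent.Fano.K51.DegDef
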