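import Groth.Agent.Fano.K475.RatAlg


/-!
# Degenerate rational quartics: the linear algebra

* `cat`: a functional on binary quartics which kills the coordinates of the curve and `q · Sym²` is zero.
* `exists_frame`: a degenerate smooth rational quartic is `α(s,t)(sP + tQ) + β(s,t)(sU + tV)` with `α, β` cubics
  without common zero and `P, Q, U, V` linearly independent.
-/

set_option autoImplicit false
universe u

namespace Groth.Agent.Fano.K51.DegCat

open K475.RatAlg Groth.Agent.Fano.K714.Rat Module

variable {k : Type u} [Field k]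

/-- A functional which kills the coordinates and the multiples of a quadratic form vanishes. -/
theorem cat [IsAlgClosed k] [CharZero k] {c : Fin (4 + 1) → Fin 5 → k} (hs : Sep c) (hn : Nz c) {l : Fin 5 → k}
    (hl : ∀ j, ∑ m, l m * c m j = 0) {q0 q1 q2 : k} (hq : ¬ (q0 = 0 ∧ q1 = 0 ∧ q2 = 0))
    (e0 : l 0 * q0 + l 1 * q1 + l 2 * q2 = 0) (e1 : l 1 * q0 + l 2 * q1 + l 3 * q2 = 0)
    (e2 : l 2 * q0 + l 3 * q1 + l 4 * q2 = 0) : l = 0 := by
  have hl' : ∀ j, l 0 * c 0 j + l 1 * c 1 j + l 2 * c 2 j + l 3 * c 3 j + l 4 * c 4 j = 0 := fun j => by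
    have := hl j
    simpa [Fin.sum_univ_five] using this
  have key : l 0 = 0 ∧ l 1 = 0 ∧ l 2 = 0 ∧ l 3 = 0 ∧ l 4 = 0 := by
    by_cases h0 : q0 = 0
    · subst h0
      by_cases h1 : q1 = 0
      · subst h1
        have h2 : q2 ≠ 0 := fun h => hq ⟨rfl, rfl, h⟩
        have h3 : l 2 = 0 := (mul_eq_zero.1 (show l 2 * q2 = 0 by linear_combination e0)).resolve_right h2
        have h4 : l 3 = 0 := (mul_eq_zero.1 (show l 3 * q2 = 0 by linear_combination e1)).resolve_right h2
        have h4' : l 4 = 0 := (mul_eq_zero.1 (show l 4 * q2 = 0 by linear_combination e2)).resolve_right h2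
        have h5 := false_of_tangent hs hn (b := ![1, 0]) (w := ![0, 1]) (x := l 0) (y := l 1)
          (by intro h; simpa using congrFun h 0) (by simp) (fun j => by
            have := hl' j
            simp [ev, dv, Fin.sum_univ_five]
            rw [h3, h4, h4'] at this
            linear_combination this)
        exact ⟨h5.1, h5.2, h3, h4, h4'⟩
      · obtain ⟨r, hr⟩ : ∃ r, r * q1 = - q2 := ⟨-q2 / q1, div_mul_cancel₀ _ h1⟩
        have h3 : l 1 = r * l 2 := mul_right_cancel₀ h1 (by linear_combination e0 - l 2 * hr)
        have h4 : l 2 = r * l 3 := mul_right_cancel₀ h1 (by linear_combination e1 - l 3 * hr)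
        have h4' : l 3 = r * l 4 := mul_right_cancel₀ h1 (by linear_combination e2 - l 4 * hr)
        have h5 := false_of_points hs hn (b := ![r, 1]) (b' := ![1, 0]) (x := l 4) (y := l 0 - r ^ 4 * l 4)
          (by intro h; simpa using congrFun h 1) (by intro h; simpa using congrFun h 0)
          (by simp) (fun j => by
            have := hl' j
            simp [ev, Fin.sum_univ_five]
            rw [h3, h4, h4'] at this
            linear_combination this)
        have h6 := h5.1
        have h7 := h5.2
        rw [h6, mul_zero, sub_zero] at h7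
        rw [h6, mul_zero] at h4'
        rw [h4', mul_zero] at h4
        rw [h4, mul_zero] at h3
        exact ⟨h7, h3, h4, h4', h6⟩
    · obtain ⟨δ, hδ⟩ := IsAlgClosed.exists_pow_nat_eq (q1 ^ 2 - 4 * q0 * q2) (n := 2) two_pos
      obtain ⟨a, ha⟩ : ∃ a, 2 * q0 * a = - q1 + δ :=
        ⟨(- q1 + δ) / (2 * q0), mul_div_cancel₀ _ (mul_ne_zero two_ne_zero h0)⟩
      obtain ⟨b, hb⟩ : ∃ b, 2 * q0 * b = - q1 - δ :=
        ⟨(- q1 - δ) / (2 * q0), mul_div_cancel₀ _ (mul_ne_zero two_ne_zero h0)⟩
      have s1 : q1 = - (a + b) * q0 := by linear_combination (1 / 2 : k) * (ha + hb)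
      have s2 : q2 = a * b * q0 := by
        have h4 : (4 * q0) * (q2 - a * b * q0) = 0 := by
          linear_combination hδ - (2 * q0 * b) * ha - (- q1 + δ) * hb
        have h5 := (mul_eq_zero.1 h4).resolve_left (mul_ne_zero (by norm_num) h0)
        linear_combination h5
      have h3 : l 0 = (a + b) * l 1 - a * b * l 2 := mul_right_cancel₀ h0 (by
        rw [s1, s2] at e0; linear_combination e0)
      have h4 : l 1 = (a + b) * l 2 - a * b * l 3 := mul_right_cancel₀ h0 (by
        rw [s1, s2] at e1; linear_combination e1)
      have h4' : l 2 = (a + b) * l 3 - a * b * l 4 := mul_right_cancel₀ h0 (by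
        rw [s1, s2] at e2; linear_combination e2)
      by_cases hab : a = b
      · subst hab
        have h5 := false_of_tangent hs hn (b := ![a, 1]) (w := ![1, 0]) (x := l 4) (y := l 3 - a * l 4)
          (by intro h; simpa using congrFun h 1) (by simp) (fun j => by
            have := hl' j
            simp [ev, dv, Fin.sum_univ_five]
            rw [h3, h4, h4'] at this
            linear_combination this)
        have h6 := h5.1
        have h7 := h5.2
        rw [h6, mul_zero, sub_zero] at h7
        rw [h6, h7, mul_zero, mul_zero, sub_zero] at h4'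
        rw [h4', h7, mul_zero, mul_zero, sub_zero] at h4
        rw [h4, h4', mul_zero, mul_zero, sub_zero] at h3
        exact ⟨h3, h4, h4', h7, h6⟩
      · have hab' : a - b ≠ 0 := sub_ne_zero.2 hab
        have h5 := false_of_points hs hn (b := ![a, 1]) (b' := ![b, 1]) (x := (l 3 - b * l 4) / (a - b))
          (y := (a * l 4 - l 3) / (a - b))
          (by intro h; simpa using congrFun h 1) (by intro h; simpa using congrFun h 1)
          (by simpa using hab') (fun j => by
            have := hl' j
            simp [ev, Fin.sum_univ_five]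
            rw [h3, h4, h4'] at this
            field_simp
            linear_combination (a - b) * this)
        have h6 := h5.1
        have h7 := h5.2
        rw [div_eq_zero_iff, or_iff_left hab'] at h6 h7
        have h8 : l 4 = 0 :=
          (mul_eq_zero.1 (show (a - b) * l 4 = 0 by linear_combination h6 + h7)).resolve_left hab'
        have h9 : l 3 = 0 := by rw [h8, mul_zero, sub_zero] at h6; exact h6
        rw [h8, h9, mul_zero, mul_zero, sub_zero] at h4'
        rw [h4', h9, mul_zero, mul_zero, sub_zero] at h4
        rw [h4, h4', mul_zero, mul_zero, sub_zero] at h3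
        exact ⟨h3, h4, h4', h9, h8⟩
  ext i
  fin_cases i
  exacts [key.1, key.2.1, key.2.2.1, key.2.2.2.1, key.2.2.2.2]

end Groth.Agent.Fano.K51.DegCat
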