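import Groth.Agent.Fano.K51.DegTB

/-!
# Degenerate rational quartics: every such curve lies in one of the charts

* `cI`, `cII`: the coefficient vectors of the curves in the two normal forms;
* `exists_chart`: after a linear change of the parameter a degenerate smooth rational quartic on a smooth cubic
  threefold has coefficient vectors `cI T p q u v` or `cII T p q u v` with normalised `p, q, u, v`.
-/

set_option autoImplicit false
universe u v

namespace Groth.Agent.Fano.K51.DegChart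

open Module K656.Trilin K475.RatAlg Groth.Agent.Fano.K714.Rat Groth.Agent.Fano.K51.DegFrame
  Groth.Agent.Fano.K51.DegDiv Groth.Agent.Fano.K51.DegNorm Groth.Agent.Fano.K51.DegTB

variable {k : Type u} [Field k] {T : (Fin 5 → k) →ₗ[k] (Fin 5 → k) →ₗ[k] (Fin 5 → k) →ₗ[k] k}

/-- The coefficient vectors in the first normal form. -/
def cI (T : (Fin 5 → k) →ₗ[k] (Fin 5 → k) →ₗ[k] (Fin 5 → k) →ₗ[k] k) {B : Type v} [CommRing B] [Algebra k B]
    (p q u v : Fin 5 → B) : Fin (4 + 1) → Fin 5 → B := cf (AI T p q u v) (BI T p q u v) p q u v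

/-- The coefficient vectors in the second normal form. -/
def cII (T : (Fin 5 → k) →ₗ[k] (Fin 5 → k) →ₗ[k] (Fin 5 → k) →ₗ[k] k) {B : Type v} [CommRing B] [Algebra k B]
    (p q u v : Fin 5 → B) : Fin (4 + 1) → Fin 5 → B := cf (AII T p q u v) (BII T p q) p q u v

theorem cubB_eq (A : Fin 4 → k) (s t : k) : cubB A s t = cub A s t := rfl

theorem cub_zero (s t : k) : cub (0 : Fin 4 → k) s t = 0 := by simp [cub]

theorem mml_eq (hT : IsSym3 T) (p q u v : Fin 5 → k) (s t : k) :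
    T (s • p + t • q) (s • p + t • q) (s • u + t • v) = cub (BI T p q u v) s t := by
  rw [← cubB_eq, ← tB_mml hT, tB_self]

theorem mll_eq (hT : IsSym3 T) (p q u v : Fin 5 → k) (s t : k) :
    T (s • p + t • q) (s • u + t • v) (s • u + t • v) = - cub (AI T p q u v) s t := by
  rw [← cubB_eq, ← tB_mll hT, tB_self]

theorem mmm_eq (hT : IsSym3 T) (p q : Fin 5 → k) (s t : k) :
    T (s • p + t • q) (s • p + t • q) (s • p + t • q) = cub (BII T p q) s t := by
  rw [← cubB_eq, ← tB_mmm hT, tB_self]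

theorem mml_eq' (hT : IsSym3 T) (p q u v : Fin 5 → k) (s t : k) :
    3 * T (s • p + t • q) (s • p + t • q) (s • u + t • v) = - cub (AII T p q u v) s t := by
  rw [← cubB_eq, ← three_tB_mml hT, tB_self]

theorem BII_eq_zero [CharZero k] (hT : IsSym3 T) {p q : Fin 5 → k}
    (h : ∀ s t : k, T (s • p + t • q) (s • p + t • q) (s • p + t • q) = 0) :
    tB T p p p = 0 ∧ tB T p p q = 0 ∧ tB T p q q = 0 ∧ tB T q q q = 0 := by
  have h3 : (3 : k) ≠ 0 := by norm_num
  have h1 : BII T p q = 0 := eq_of_cub fun s t => by rw [← mmm_eq hT, h, cub_zero]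
  have e0 := congrFun h1 0
  have e1 := congrFun h1 1
  have e2 := congrFun h1 2
  have e3 := congrFun h1 3
  simp only [BII, Matrix.cons_val, Pi.zero_apply] at e0 e1 e2 e3
  exact ⟨e0, (mul_eq_zero.1 e1).resolve_left h3, (mul_eq_zero.1 e2).resolve_left h3, e3⟩

theorem eqI_of [CharZero k] (hT : IsSym3 T) {p q u v : Fin 5 → k}
    (h1 : ∀ s t : k, T (s • p + t • q) (s • p + t • q) (s • p + t • q) = 0)
    (h2 : ∀ s t : k, T (s • u + t • v) (s • u + t • v) (s • u + t • v) = 0) : EqI T p q u v := by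
  obtain ⟨a0, a1, a2, a3⟩ := BII_eq_zero hT h1
  obtain ⟨b0, b1, b2, b3⟩ := BII_eq_zero hT h2
  exact ⟨a0, a1, a2, a3, b0, b1, b2, b3⟩

theorem eqII_of [CharZero k] (hT : IsSym3 T) {p q u v : Fin 5 → k}
    (h1 : ∀ s t : k, T (s • p + t • q) (s • u + t • v) (s • u + t • v) = 0)
    (h2 : ∀ s t : k, T (s • u + t • v) (s • u + t • v) (s • u + t • v) = 0) : EqII T p q u v := by
  have h3 : AI T p q u v = 0 := eq_of_cub fun s t => by
    rw [cub_zero]
    have := h1 s t
    rw [mll_eq hT] at this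
    exact neg_eq_zero.1 this
  have e0 := congrFun h3 0
  have e1 := congrFun h3 1
  have e2 := congrFun h3 2
  have e3 := congrFun h3 3
  simp only [AI, Matrix.cons_val, Pi.zero_apply, neg_eq_zero] at e0 e1 e2 e3
  obtain ⟨b0, b1, b2, b3⟩ := BII_eq_zero hT h2
  exact ⟨e0, e1, e2, e3, b0, b1, b2, b3⟩

/-- A nonzero minor of two independent vectors. -/
theorem exists_minor {n : ℕ} {p q : Fin n → k} (h : LinearIndependent k ![p, q]) :
    ∃ i j, p i * q j - p j * q i ≠ 0 := by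
  by_contra hc
  push Not at hc
  have hp : p ≠ 0 := h.ne_zero 0
  obtain ⟨i, hi⟩ := Function.ne_iff.1 hp
  have h1 := LinearIndependent.pair_iff.1 h (-(q i)) (p i) (by
    funext j
    have := hc i j
    simp only [Pi.add_apply, Pi.smul_apply, smul_eq_mul, Pi.zero_apply]
    linear_combination this)
  exact hi h1.2

theorem cpt_smul_smul (c : Fin (4 + 1) → Fin 5 → k) (δ s t : k) : cpt c (δ * s) (δ * t) = δ ^ 4 • cpt c s t := by
  funext j
  rw [Pi.smul_apply, smul_eq_mul, cpt_four, cpt_four]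
  ring

/-- The two kinds of charts. -/
def InChart (T : (Fin 5 → k) →ₗ[k] (Fin 5 → k) →ₗ[k] (Fin 5 → k) →ₗ[k] k) (c : Fin (4 + 1) → Fin 5 → k) : Prop :=
  (∃ (i j i' j' : Fin 5) (p q u v : Fin 5 → k), EqI T p q u v ∧ p i = 1 ∧ p j = 0 ∧ q i = 0 ∧ q j = 1 ∧
    u i' * v j' - u j' * v i' = 1 ∧ c = cI T p q u v) ∨
  (∃ (i j r : Fin 5) (p q u v : Fin 5 → k), EqII T p q u v ∧ u i = 1 ∧ u j = 0 ∧ v i = 0 ∧ v j = 1 ∧
    p r = 1 ∧ c = cII T p q u v)

section

variable [IsAlgClosed k] [CharZero k] (hT : IsSym3 T)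

include hT

theorem chart_I {P Q U V : Fin 5 → k} (hli : LinearIndependent k ![P, Q, U, V])
    (h1 : ∀ s t : k, T (s • P + t • Q) (s • P + t • Q) (s • P + t • Q) = 0)
    (h2 : ∀ s t : k, T (s • U + t • V) (s • U + t • V) (s • U + t • V) = 0)
    (c : Fin (4 + 1) → Fin 5 → k) (hc : ∀ s t, cpt c s t = gpt (AI T P Q U V) (BI T P Q U V) P Q U V s t) :
    ∃ (γ : Matrix (Fin 2) (Fin 2) k) (c' : Fin (4 + 1) → Fin 5 → k), γ.det ≠ 0 ∧
      (∀ s t : k, cpt c' s t = cpt c (γ 0 0 * s + γ 0 1 * t) (γ 1 0 * s + γ 1 1 * t)) ∧ InChart T c' := by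
  have hPQ : LinearIndependent k ![P, Q] := by
    have := hli.comp ![0, 1] (by decide)
    convert this using 1
    ext i : 1; fin_cases i <;> rfl
  have hUV : LinearIndependent k ![U, V] := by
    have := hli.comp ![2, 3] (by decide)
    convert this using 1
    ext i : 1; fin_cases i <;> rfl
  obtain ⟨i, j, hij⟩ := exists_minor hPQ
  set D := P i * Q j - P j * Q i with hD
  obtain ⟨g00, hg00⟩ : ∃ g, g = Q j / D := ⟨_, rfl⟩
  obtain ⟨g10, hg10⟩ : ∃ g, g = -(P j) / D := ⟨_, rfl⟩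
  obtain ⟨g01, hg01⟩ : ∃ g, g = -(Q i) / D := ⟨_, rfl⟩
  obtain ⟨g11, hg11⟩ : ∃ g, g = P i / D := ⟨_, rfl⟩
  have hdet : g00 * g11 - g01 * g10 = 1 / D := by
    rw [hg00, hg10, hg01, hg11]
    field_simp
    rw [hD]; ring
  have hm : ∀ s t : k, s • (g00 • P + g10 • Q) + t • (g01 • P + g11 • Q) =
      (g00 * s + g01 * t) • P + (g10 * s + g11 * t) • Q := fun s t => by module
  have hl : ∀ s t : k, s • (g00 • U + g10 • V) + t • (g01 • U + g11 • V) =
      (g00 * s + g01 * t) • U + (g10 * s + g11 * t) • V := fun s t => by module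
  have hli1 : LinearIndependent k ![g00 • U + g10 • V, g01 • U + g11 • V] := by
    rw [LinearIndependent.pair_iff]
    intro s t hst
    rw [hl] at hst
    obtain ⟨e1, e2⟩ := LinearIndependent.pair_iff.1 hUV _ _ hst
    have hd : (1 / D : k) ≠ 0 := one_div_ne_zero hij
    rw [← hdet] at hd
    constructor
    · exact (mul_eq_zero.1 (show (g00 * g11 - g01 * g10) * s = 0 by
        linear_combination g11 * e1 - g01 * e2)).resolve_left hd
    · exact (mul_eq_zero.1 (show (g00 * g11 - g01 * g10) * t = 0 by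
        linear_combination g00 * e2 - g10 * e1)).resolve_left hd
  obtain ⟨i', j', hij'⟩ := exists_minor hli1
  obtain ⟨μ, hμ⟩ := IsAlgClosed.exists_pow_nat_eq (((g00 • U + g10 • V) i' * (g01 • U + g11 • V) j' -
    (g00 • U + g10 • V) j' * (g01 • U + g11 • V) i')⁻¹) (n := 2) (by norm_num)
  have hμ0 : μ ≠ 0 := by
    rintro rfl
    rw [zero_pow (by norm_num)] at hμ
    exact inv_ne_zero hij' hμ.symm
  obtain ⟨δ, hδ⟩ := IsAlgClosed.exists_pow_nat_eq (μ ^ 2) (n := 4) (by norm_num)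
  have hδ0 : δ ≠ 0 := by
    rintro rfl
    rw [zero_pow (by norm_num)] at hδ
    exact pow_ne_zero 2 hμ0 hδ.symm
  have hl' : ∀ s t : k, s • (μ • (g00 • U + g10 • V)) + t • (μ • (g01 • U + g11 • V)) =
      μ • ((g00 * s + g01 * t) • U + (g10 * s + g11 * t) • V) := fun s t => by module
  refine ⟨!![δ * g00, δ * g01; δ * g10, δ * g11], cI T (g00 • P + g10 • Q) (g01 • P + g11 • Q)
    (μ • (g00 • U + g10 • V)) (μ • (g01 • U + g11 • V)), ?_, fun s t => ?_, Or.inl ⟨i, j, i', j', _, _, _, _,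
      eqI_of hT (fun s t => ?_) (fun s t => ?_), ?_, ?_, ?_, ?_, ?_, rfl⟩⟩
  · rw [Matrix.det_fin_two_of]
    have : δ * g00 * (δ * g11) - δ * g01 * (δ * g10) = δ ^ 2 * (g00 * g11 - g01 * g10) := by ring
    rw [this, hdet]
    exact mul_ne_zero (pow_ne_zero _ hδ0) (one_div_ne_zero hij)
  · -- the curve
    have e1 : (!![δ * g00, δ * g01; δ * g10, δ * g11] : Matrix (Fin 2) (Fin 2) k) 0 0 * s +
        (!![δ * g00, δ * g01; δ * g10, δ * g11] : Matrix (Fin 2) (Fin 2) k) 0 1 * t = δ * (g00 * s + g01 * t) := by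
      simp; ring
    have e2 : (!![δ * g00, δ * g01; δ * g10, δ * g11] : Matrix (Fin 2) (Fin 2) k) 1 0 * s +
        (!![δ * g00, δ * g01; δ * g10, δ * g11] : Matrix (Fin 2) (Fin 2) k) 1 1 * t = δ * (g10 * s + g11 * t) := by
      simp; ring
    rw [e1, e2, cpt_smul_smul, hc, hδ, cI, cpt_cf, gpt, gpt]
    have a1 : cub (AI T (g00 • P + g10 • Q) (g01 • P + g11 • Q) (μ • (g00 • U + g10 • V))
        (μ • (g01 • U + g11 • V))) s t = μ ^ 2 * cub (AI T P Q U V) (g00 * s + g01 * t) (g10 * s + g11 * t) := by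
      have h3 := mll_eq hT (g00 • P + g10 • Q) (g01 • P + g11 • Q) (μ • (g00 • U + g10 • V))
        (μ • (g01 • U + g11 • V)) s t
      have h4 := mll_eq hT P Q U V (g00 * s + g01 * t) (g10 * s + g11 * t)
      rw [hm, hl'] at h3
      simp only [map_smul, LinearMap.smul_apply, smul_eq_mul] at h3
      rw [h4] at h3
      linear_combination h3
    have a2 : cub (BI T (g00 • P + g10 • Q) (g01 • P + g11 • Q) (μ • (g00 • U + g10 • V))
        (μ • (g01 • U + g11 • V))) s t = μ * cub (BI T P Q U V) (g00 * s + g01 * t) (g10 * s + g11 * t) := by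
      have h3 := mml_eq hT (g00 • P + g10 • Q) (g01 • P + g11 • Q) (μ • (g00 • U + g10 • V))
        (μ • (g01 • U + g11 • V)) s t
      have h4 := mml_eq hT P Q U V (g00 * s + g01 * t) (g10 * s + g11 * t)
      rw [hm, hl'] at h3
      simp only [map_smul, smul_eq_mul] at h3
      rw [h4] at h3
      exact h3.symm
    rw [a1, a2, hm, hl']
    module
  · rw [hm]; exact h1 _ _
  · rw [hl']
    simp only [map_smul, LinearMap.smul_apply, smul_eq_mul]
    rw [h2, mul_zero, mul_zero, mul_zero]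
  · simp only [Pi.add_apply, Pi.smul_apply, smul_eq_mul]
    rw [hg00, hg10]; field_simp; rw [hD]; ring
  · simp only [Pi.add_apply, Pi.smul_apply, smul_eq_mul]
    rw [hg00, hg10]; field_simp; ring
  · simp only [Pi.add_apply, Pi.smul_apply, smul_eq_mul]
    rw [hg01, hg11]; field_simp; ring
  · simp only [Pi.add_apply, Pi.smul_apply, smul_eq_mul]
    rw [hg01, hg11]; field_simp; rw [hD]; ring
  · have h5 : μ ^ 2 * ((g00 • U + g10 • V) i' * (g01 • U + g11 • V) j' -
        (g00 • U + g10 • V) j' * (g01 • U + g11 • V) i') = 1 := by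
      rw [hμ, inv_mul_cancel₀ hij']
    rw [Pi.smul_apply, Pi.smul_apply, Pi.smul_apply, Pi.smul_apply, smul_eq_mul, smul_eq_mul, smul_eq_mul,
      smul_eq_mul]
    linear_combination h5

theorem chart_II {P Q U V : Fin 5 → k} (hli : LinearIndependent k ![P, Q, U, V])
    (h1 : ∀ s t : k, T (s • P + t • Q) (s • U + t • V) (s • U + t • V) = 0)
    (h2 : ∀ s t : k, T (s • U + t • V) (s • U + t • V) (s • U + t • V) = 0)
    (c : Fin (4 + 1) → Fin 5 → k) (hc : ∀ s t, cpt c s t = gpt (AII T P Q U V) (BII T P Q) P Q U V s t) :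
    ∃ (γ : Matrix (Fin 2) (Fin 2) k) (c' : Fin (4 + 1) → Fin 5 → k), γ.det ≠ 0 ∧
      (∀ s t : k, cpt c' s t = cpt c (γ 0 0 * s + γ 0 1 * t) (γ 1 0 * s + γ 1 1 * t)) ∧ InChart T c' := by
  have h3' : (3 : k) ≠ 0 := by norm_num
  have hPQ : LinearIndependent k ![P, Q] := by
    have := hli.comp ![0, 1] (by decide)
    convert this using 1
    ext i : 1; fin_cases i <;> rfl
  have hUV : LinearIndependent k ![U, V] := by
    have := hli.comp ![2, 3] (by decide)
    convert this using 1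
    ext i : 1; fin_cases i <;> rfl
  obtain ⟨i, j, hij⟩ := exists_minor hUV
  set D := U i * V j - U j * V i with hD
  obtain ⟨g00, hg00⟩ : ∃ g, g = V j / D := ⟨_, rfl⟩
  obtain ⟨g10, hg10⟩ : ∃ g, g = -(U j) / D := ⟨_, rfl⟩
  obtain ⟨g01, hg01⟩ : ∃ g, g = -(V i) / D := ⟨_, rfl⟩
  obtain ⟨g11, hg11⟩ : ∃ g, g = U i / D := ⟨_, rfl⟩
  have hdet : g00 * g11 - g01 * g10 = 1 / D := by
    rw [hg00, hg10, hg01, hg11]
    field_simp
    rw [hD]; ring
  have hl : ∀ s t : k, s • (g00 • U + g10 • V) + t • (g01 • U + g11 • V) =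
      (g00 * s + g01 * t) • U + (g10 * s + g11 * t) • V := fun s t => by module
  have hne : g00 • P + g10 • Q ≠ 0 := by
    intro h0
    obtain ⟨e1, e2⟩ := LinearIndependent.pair_iff.1 hPQ _ _ h0
    have hd : (1 / D : k) ≠ 0 := one_div_ne_zero hij
    rw [← hdet, e1, e2] at hd
    apply hd
    ring
  obtain ⟨r, hr⟩ := Function.ne_iff.1 hne
  rw [Pi.zero_apply] at hr
  obtain ⟨μ, hμ⟩ : ∃ μ : k, μ * (g00 • P + g10 • Q) r = 1 := ⟨_, inv_mul_cancel₀ hr⟩
  have hμ0 : μ ≠ 0 := by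
    rintro rfl
    rw [zero_mul] at hμ
    exact zero_ne_one hμ
  obtain ⟨δ, hδ⟩ := IsAlgClosed.exists_pow_nat_eq (μ ^ 3) (n := 4) (by norm_num)
  have hδ0 : δ ≠ 0 := by
    rintro rfl
    rw [zero_pow (by norm_num)] at hδ
    exact pow_ne_zero 3 hμ0 hδ.symm
  have hm' : ∀ s t : k, s • (μ • (g00 • P + g10 • Q)) + t • (μ • (g01 • P + g11 • Q)) =
      μ • ((g00 * s + g01 * t) • P + (g10 * s + g11 * t) • Q) := fun s t => by module
  refine ⟨!![δ * g00, δ * g01; δ * g10, δ * g11], cII T (μ • (g00 • P + g10 • Q)) (μ • (g01 • P + g11 • Q))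
    (g00 • U + g10 • V) (g01 • U + g11 • V), ?_, fun s t => ?_, Or.inr ⟨i, j, r, _, _, _, _,
      eqII_of hT (fun s t => ?_) (fun s t => ?_), ?_, ?_, ?_, ?_, ?_, rfl⟩⟩
  · rw [Matrix.det_fin_two_of]
    have : δ * g00 * (δ * g11) - δ * g01 * (δ * g10) = δ ^ 2 * (g00 * g11 - g01 * g10) := by ring
    rw [this, hdet]
    exact mul_ne_zero (pow_ne_zero _ hδ0) (one_div_ne_zero hij)
  · -- the curve
    have e1 : (!![δ * g00, δ * g01; δ * g10, δ * g11] : Matrix (Fin 2) (Fin 2) k) 0 0 * s +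
        (!![δ * g00, δ * g01; δ * g10, δ * g11] : Matrix (Fin 2) (Fin 2) k) 0 1 * t = δ * (g00 * s + g01 * t) := by
      simp; ring
    have e2 : (!![δ * g00, δ * g01; δ * g10, δ * g11] : Matrix (Fin 2) (Fin 2) k) 1 0 * s +
        (!![δ * g00, δ * g01; δ * g10, δ * g11] : Matrix (Fin 2) (Fin 2) k) 1 1 * t = δ * (g10 * s + g11 * t) := by
      simp; ring
    rw [e1, e2, cpt_smul_smul, hc, hδ, cII, cpt_cf, gpt, gpt]
    have a1 : cub (AII T (μ • (g00 • P + g10 • Q)) (μ • (g01 • P + g11 • Q)) (g00 • U + g10 • V)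
        (g01 • U + g11 • V)) s t = μ ^ 2 * cub (AII T P Q U V) (g00 * s + g01 * t) (g10 * s + g11 * t) := by
      have h3 := mml_eq' hT (μ • (g00 • P + g10 • Q)) (μ • (g01 • P + g11 • Q)) (g00 • U + g10 • V)
        (g01 • U + g11 • V) s t
      have h4 := mml_eq' hT P Q U V (g00 * s + g01 * t) (g10 * s + g11 * t)
      rw [hm', hl] at h3
      simp only [map_smul, LinearMap.smul_apply, smul_eq_mul] at h3
      linear_combination h3 - μ ^ 2 * h4
    have a2 : cub (BII T (μ • (g00 • P + g10 • Q)) (μ • (g01 • P + g11 • Q))) s t =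
        μ ^ 3 * cub (BII T P Q) (g00 * s + g01 * t) (g10 * s + g11 * t) := by
      have h3 := mmm_eq hT (μ • (g00 • P + g10 • Q)) (μ • (g01 • P + g11 • Q)) s t
      have h4 := mmm_eq hT P Q (g00 * s + g01 * t) (g10 * s + g11 * t)
      rw [hm'] at h3
      simp only [map_smul, LinearMap.smul_apply, smul_eq_mul] at h3
      linear_combination -h3 + μ ^ 3 * h4
    rw [a1, a2, hm', hl]
    module
  · rw [hm', hl]
    simp only [map_smul, LinearMap.smul_apply, smul_eq_mul]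
    rw [h1, mul_zero]
  · rw [hl]; exact h2 _ _
  · simp only [Pi.add_apply, Pi.smul_apply, smul_eq_mul]
    rw [hg00, hg10]; field_simp; rw [hD]; ring
  · simp only [Pi.add_apply, Pi.smul_apply, smul_eq_mul]
    rw [hg00, hg10]; field_simp; ring
  · simp only [Pi.add_apply, Pi.smul_apply, smul_eq_mul]
    rw [hg01, hg11]; field_simp; ring
  · simp only [Pi.add_apply, Pi.smul_apply, smul_eq_mul]
    rw [hg01, hg11]; field_simp; rw [hD]; ring
  · rw [Pi.smul_apply, smul_eq_mul, hμ]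

/-- Every degenerate smooth rational quartic lies in a chart, after a linear change of the parameter. -/
theorem exists_chart (hsm : K714.Surf.SmoothOn T ⊤) {c : Fin (4 + 1) → Fin 5 → k} (hs : Sep c) (hn : Nz c)
    (ν : Fin 5 → k) (hν : ν ≠ 0) (hc : ∀ m, ∑ j, c m j * ν j = 0)
    (hf : ∀ s t : k, T (cpt c s t) (cpt c s t) (cpt c s t) = 0) :
    ∃ (γ : Matrix (Fin 2) (Fin 2) k) (c' : Fin (4 + 1) → Fin 5 → k), γ.det ≠ 0 ∧
      (∀ s t : k, cpt c' s t = cpt c (γ 0 0 * s + γ 0 1 * t) (γ 1 0 * s + γ 1 1 * t)) ∧ InChart T c' := by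
  obtain ⟨al, be, P, Q, U, V, hz, hli, hg⟩ := exists_frame hs hn ν hν hc
  have hg' : ∀ s t, cpt c s t = gpt al be P Q U V s t := hg
  obtain ⟨al', be', P', Q', U', V', hli', hg'', hI | hII⟩ := exists_normal hT hsm hz hli (fun s t => by
    rw [← hg']; exact hf s t)
  · refine chart_I hT hli' (fun s t => (hI s t).1) (fun s t => (hI s t).2.2.2) c (fun s t => ?_)
    obtain ⟨-, h2, h3, -⟩ := hI s t
    rw [hg', ← hg'', gpt, gpt]
    rw [mml_eq hT] at h2
    rw [mll_eq hT] at h3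
    rw [← h2, neg_inj.1 h3]
  · refine chart_II hT hli' (fun s t => (hII s t).2.2.1) (fun s t => (hII s t).2.2.2) c (fun s t => ?_)
    obtain ⟨h1, h2, -, -⟩ := hII s t
    rw [hg', ← hg'', gpt, gpt]
    rw [mmm_eq hT] at h1
    rw [mml_eq' hT] at h2
    rw [← h1, neg_inj.1 h2]

end

end Groth.Agent.Fano.K51.DegChart
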