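import Groth.Agent.Fano.K51.DegCat
import Groth.Agent.Fano.K714.Surf
import Mathlib.LinearAlgebra.Eigenspace.Triangularizable

/-!
# Degenerate rational quartics: the frame

* `exists_frame`: a degenerate smooth rational quartic is `α(s,t)(sP + tQ) + β(s,t)(sU + tV)` with `α, β` cubics
  without common zero and `P, Q, U, V` linearly independent.
-/

set_option autoImplicit false
universe u

namespace Groth.Agent.Fano.K51.DegFrame

open K475.RatAlg Groth.Agent.Fano.K714.Rat Groth.Agent.Fano.K51.DegCat Module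

variable {k : Type u} [Field k]

/-- A binary cubic. -/
def cub (u : Fin 4 → k) (s t : k) : k := u 0 * s ^ 3 + u 1 * (s ^ 2 * t) + u 2 * (s * t ^ 2) + u 3 * t ^ 3

/-- The product with `s`. -/
def mS (u : Fin 4 → k) : Fin 5 → k := ![u 0, u 1, u 2, u 3, 0]

/-- The product with `t`. -/
def mT (u : Fin 4 → k) : Fin 5 → k := ![0, u 0, u 1, u 2, u 3]

/-- The pairing of a functional with the multiples of a cubic. -/
def hank (l : Fin 5 → k) : (Fin 4 → k) →ₗ[k] (k × k) where
  toFun u := (l 0 * u 0 + l 1 * u 1 + l 2 * u 2 + l 3 * u 3, l 1 * u 0 + l 2 * u 1 + l 3 * u 2 + l 4 * u 3)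
  map_add' u v := by
    ext <;> simp only [Pi.add_apply, Prod.fst_add, Prod.snd_add] <;> ring
  map_smul' a u := by
    ext <;> simp only [Pi.smul_apply, smul_eq_mul, Prod.smul_fst, Prod.smul_snd, RingHom.id_apply] <;> ring

theorem hank_fst (l : Fin 5 → k) (u : Fin 4 → k) :
    (hank l u).1 = l 0 * u 0 + l 1 * u 1 + l 2 * u 2 + l 3 * u 3 := rfl

theorem hank_snd (l : Fin 5 → k) (u : Fin 4 → k) :
    (hank l u).2 = l 1 * u 0 + l 2 * u 1 + l 3 * u 2 + l 4 * u 3 := rfl

/-- A map to `k²` with large kernel satisfies a relation. -/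
theorem exists_rel {V : Type*} [AddCommGroup V] [Module k V] (φ : V →ₗ[k] k × k) (h : LinearMap.range φ ≠ ⊤) :
    ∃ x y : k, (x ≠ 0 ∨ y ≠ 0) ∧ ∀ v, x * (φ v).1 + y * (φ v).2 = 0 := by
  obtain ⟨g, hg, hle⟩ := Submodule.exists_le_ker_of_lt_top _ (lt_top_iff_ne_top.2 h)
  refine ⟨g (1, 0), g (0, 1), ?_, fun v => ?_⟩
  · by_contra hc
    push Not at hc
    apply hg
    ext
    · simpa using hc.1
    · simpa using hc.2
  · have h1 : g (φ v) = 0 := hle ⟨v, rfl⟩
    have h2 : φ v = (φ v).1 • ((1 : k), (0 : k)) + (φ v).2 • ((0 : k), (1 : k)) := by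
      ext <;> simp
    rw [h2, map_add, map_smul, map_smul, smul_eq_mul, smul_eq_mul] at h1
    linear_combination h1

/-- A cubic with a zero is divisible by a linear form. -/
theorem exists_quot {u : Fin 4 → k} {s t : k} (hst : s ≠ 0 ∨ t ≠ 0) (h : cub u s t = 0) :
    ∃ v : Fin 3 → k, u 0 = t * v 0 ∧ u 1 = t * v 1 - s * v 0 ∧ u 2 = t * v 2 - s * v 1 ∧ u 3 = - (s * v 2) := by
  by_cases ht : t = 0
  · subst ht
    have hs : s ≠ 0 := hst.resolve_right (fun h => h rfl)
    have h0 : u 0 = 0 := by
      have h1 : u 0 * s ^ 3 = 0 := by rw [cub] at h; linear_combination h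
      exact (mul_eq_zero.1 h1).resolve_right (pow_ne_zero _ hs)
    refine ⟨![-(u 1) / s, -(u 2) / s, -(u 3) / s], ?_, ?_, ?_, ?_⟩
    · rw [h0]; simp
    all_goals
      simp only [Matrix.cons_val]
      field_simp
      try ring
  · refine ⟨![u 0 / t, (u 1 + s * (u 0 / t)) / t, (u 2 + s * ((u 1 + s * (u 0 / t)) / t)) / t], ?_, ?_, ?_, ?_⟩
    · simp only [Matrix.cons_val]
      field_simp
    · simp only [Matrix.cons_val]
      field_simp
      ring
    · simp only [Matrix.cons_val]
      field_simp
      ring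
    · simp only [Matrix.cons_val]
      rw [cub] at h
      field_simp
      linear_combination h

section

variable [IsAlgClosed k] [CharZero k] {c : Fin (4 + 1) → Fin 5 → k} (hs : Sep c) (hn : Nz c) {l : Fin 5 → k}
  (hl : ∀ j, ∑ m, l m * c m j = 0) (hl0 : l ≠ 0)

include hs hn hl hl0

theorem range_hank : LinearMap.range (hank l) = ⊤ := by
  by_contra hc
  obtain ⟨x, y, hxy, h⟩ := exists_rel _ hc
  have h0 := h (Pi.single 0 1)
  have h1 := h (Pi.single 1 1)
  have h2 := h (Pi.single 2 1)
  rw [hank_fst, hank_snd] at h0 h1 h2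
  simp at h0 h1 h2
  refine hl0 (cat hs hn hl (q0 := x) (q1 := y) (q2 := 0) ?_ ?_ ?_ ?_)
  · rintro ⟨hx, hy, -⟩
    rcases hxy with h | h
    exacts [h hx, h hy]
  · linear_combination h0
  · linear_combination h1
  · linear_combination h2

theorem finrank_ker : finrank k (LinearMap.ker (hank l)) = 2 := by
  have h1 := LinearMap.finrank_range_add_finrank_ker (hank l)
  rw [range_hank hs hn hl hl0, finrank_top, finrank_prod, finrank_self, finrank_fin_fun] at h1
  omega

/-- The cubics annihilated by the functional have no common zero. -/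
theorem no_zero {s t : k} (hst : s ≠ 0 ∨ t ≠ 0) : ∃ u ∈ LinearMap.ker (hank l), cub u s t ≠ 0 := by
  by_contra hc
  push Not at hc
  -- the quadratic forms
  let D : (Fin 3 → k) →ₗ[k] (Fin 4 → k) :=
    { toFun := fun v => ![t * v 0, t * v 1 - s * v 0, t * v 2 - s * v 1, - (s * v 2)]
      map_add' := fun v w => by ext i; fin_cases i <;> simp <;> ring
      map_smul' := fun a v => by ext i; fin_cases i <;> simp <;> ring }
  have hD : ∀ u ∈ LinearMap.ker (hank l), ∃ v, D v = u := by
    intro u hu
    obtain ⟨v, h0, h1, h2, h3⟩ := exists_quot hst (hc u hu)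
    refine ⟨v, ?_⟩
    ext i
    fin_cases i
    exacts [h0.symm, h1.symm, h2.symm, h3.symm]
  have h1 : LinearMap.range ((hank l).comp D) ≠ ⊤ := by
    intro htop
    have h2 := LinearMap.finrank_range_add_finrank_ker ((hank l).comp D)
    rw [htop, finrank_top, finrank_prod, finrank_self, finrank_fin_fun] at h2
    have h3 : finrank k (LinearMap.ker (hank l)) ≤ finrank k (LinearMap.ker ((hank l).comp D)) := by
      have h4 : LinearMap.ker (hank l) ≤ (LinearMap.ker ((hank l).comp D)).map D := by
        intro u hu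
        obtain ⟨v, rfl⟩ := hD u hu
        exact ⟨v, hu, rfl⟩
      exact (Submodule.finrank_mono h4).trans (Submodule.finrank_map_le D _)
    rw [finrank_ker hs hn hl hl0] at h3
    omega
  obtain ⟨x, y, hxy, h⟩ := exists_rel _ h1
  have g0 := h (Pi.single 0 1)
  have g1 := h (Pi.single 1 1)
  have g2 := h (Pi.single 2 1)
  simp only [LinearMap.comp_apply, hank_fst, hank_snd] at g0 g1 g2
  simp [D] at g0 g1 g2
  refine hl0 (cat hs hn hl (q0 := t * x) (q1 := t * y - s * x) (q2 := - (s * y)) ?_ ?_ ?_ ?_)
  · rintro ⟨e1, e2, e3⟩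
    have e3' : s * y = 0 := by linear_combination -e3
    rcases mul_eq_zero.1 e1 with ht | hx
    · have hs0 : s ≠ 0 := hst.resolve_right (fun h => h ht)
      rcases mul_eq_zero.1 e3' with h4 | hy
      · exact hs0 h4
      · rw [ht, zero_mul, zero_sub] at e2
        rcases mul_eq_zero.1 (neg_eq_zero.1 e2) with h4 | hx
        · exact hs0 h4
        · rcases hxy with h | h
          exacts [h hx, h hy]
    · rw [hx, mul_zero, sub_zero] at e2
      rcases mul_eq_zero.1 e3' with h4 | hy
      · rcases mul_eq_zero.1 e2 with ht | hy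
        · rcases hst with h | h
          exacts [h h4, h ht]
        · rcases hxy with h | h
          exacts [h hx, h hy]
      · rcases hxy with h | h
        exacts [h hx, h hy]
  · linear_combination g0
  · linear_combination g1
  · linear_combination g2

end

theorem cub_add (u v : Fin 4 → k) (s t : k) : cub (u + v) s t = cub u s t + cub v s t := by
  simp only [cub, Pi.add_apply]; ring

theorem cub_smul (a : k) (u : Fin 4 → k) (s t : k) : cub (a • u) s t = a * cub u s t := by
  simp only [cub, Pi.smul_apply, smul_eq_mul]; ring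

/-- The products with `s` and `t` of two cubics without common zero are linearly independent. -/
theorem indep [IsAlgClosed k] {al be : Fin 4 → k} (hli : LinearIndependent k ![al, be])
    (hz : ∀ s t : k, (s ≠ 0 ∨ t ≠ 0) → cub al s t = 0 → cub be s t = 0 → False) :
    LinearIndependent k ![mS al, mT al, mS be, mT be] := by
  rw [Fintype.linearIndependent_iff]
  intro x hx
  have h0 := congrFun hx 0
  have h1 := congrFun hx 1
  have h2 := congrFun hx 2
  have h3 := congrFun hx 3
  have h4 := congrFun hx 4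
  simp [Fin.sum_univ_four, mS, mT] at h0 h1 h2 h3 h4
  have hv : x 0 * al 1 + x 2 * be 1 = 0 ∧ x 0 * al 2 + x 2 * be 2 = 0 ∧ x 0 * al 3 + x 2 * be 3 = 0 := by
    by_cases hdet : x 0 * x 3 - x 1 * x 2 = 0
    · have a1 : x 2 * (x 0 * al 1 + x 2 * be 1) = 0 := by
        linear_combination x 2 * h1 + (-(x 3)) * h0 + al 0 * hdet
      have a2 : x 3 * (x 0 * al 1 + x 2 * be 1) + x 2 * (x 0 * al 2 + x 2 * be 2) = 0 := by
        linear_combination x 2 * h2 + al 1 * hdet
      have a3 : x 3 * (x 0 * al 2 + x 2 * be 2) + x 2 * (x 0 * al 3 + x 2 * be 3) = 0 := by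
        linear_combination x 2 * h3 + al 2 * hdet
      have a4 : x 3 * (x 0 * al 3 + x 2 * be 3) = 0 := by
        linear_combination x 2 * h4 + al 3 * hdet
      have b1 : x 0 * (x 0 * al 1 + x 2 * be 1) = 0 := by
        linear_combination x 0 * h1 + (-(x 1)) * h0 - be 0 * hdet
      have b2 : x 1 * (x 0 * al 1 + x 2 * be 1) + x 0 * (x 0 * al 2 + x 2 * be 2) = 0 := by
        linear_combination x 0 * h2 - be 1 * hdet
      have b3 : x 1 * (x 0 * al 2 + x 2 * be 2) + x 0 * (x 0 * al 3 + x 2 * be 3) = 0 := by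
        linear_combination x 0 * h3 - be 2 * hdet
      have b4 : x 1 * (x 0 * al 3 + x 2 * be 3) = 0 := by
        linear_combination x 0 * h4 - be 3 * hdet
      by_cases hx2 : x 2 = 0
      · by_cases hx0 : x 0 = 0
        · rw [hx0, hx2]; simp
        · have c1 := (mul_eq_zero.1 b1).resolve_left hx0
          rw [c1, mul_zero, zero_add] at b2
          have c2 := (mul_eq_zero.1 b2).resolve_left hx0
          rw [c2, mul_zero, zero_add] at b3
          exact ⟨c1, c2, (mul_eq_zero.1 b3).resolve_left hx0⟩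
      · have c1 := (mul_eq_zero.1 a1).resolve_left hx2
        rw [c1, mul_zero, zero_add] at a2
        have c2 := (mul_eq_zero.1 a2).resolve_left hx2
        rw [c2, mul_zero, zero_add] at a3
        exact ⟨c1, c2, (mul_eq_zero.1 a3).resolve_left hx2⟩
    · exfalso
      obtain ⟨s, t, hst, hq⟩ := K714.Surf.exists_quad_zero (x 0 * al 1 + x 2 * be 1) (x 0 * al 2 + x 2 * be 2)
        (x 0 * al 3 + x 2 * be 3)
      refine hz s t hst ?_ ?_
      · apply (mul_eq_zero.1 (?_ : (x 0 * x 3 - x 1 * x 2) * cub al s t = 0)).resolve_left hdet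
        rw [cub]
        linear_combination (x 3 * t + x 2 * s) * hq + x 3 * s ^ 3 * h0 - x 2 * s ^ 3 * h1 - x 2 * s ^ 2 * t * h2 -
          x 2 * s * t ^ 2 * h3 - x 2 * t ^ 3 * h4
      · apply (mul_eq_zero.1 (?_ : (x 0 * x 3 - x 1 * x 2) * cub be s t = 0)).resolve_left hdet
        rw [cub]
        linear_combination (-(x 1) * t - x 0 * s) * hq - x 1 * s ^ 3 * h0 + x 0 * s ^ 3 * h1 + x 0 * s ^ 2 * t * h2 +
          x 0 * s * t ^ 2 * h3 + x 0 * t ^ 3 * h4
  have hw : x 0 • al + x 2 • be = 0 := by
    ext i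
    fin_cases i
    · simpa using h0
    · simpa using hv.1
    · simpa using hv.2.1
    · simpa using hv.2.2
  have hz' : x 1 • al + x 3 • be = 0 := by
    ext i
    fin_cases i
    · simp; linear_combination h1 - hv.1
    · simp; linear_combination h2 - hv.2.1
    · simp; linear_combination h3 - hv.2.2
    · simpa using h4
  obtain ⟨e0, e2⟩ := LinearIndependent.pair_iff.1 hli _ _ hw
  obtain ⟨e1, e3⟩ := LinearIndependent.pair_iff.1 hli _ _ hz'
  intro i
  fin_cases i
  exacts [e0, e1, e2, e3]

theorem cpt_four (c : Fin (4 + 1) → Fin 5 → k) (s t : k) (j : Fin 5) :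
    cpt c s t j = s ^ 4 * c 0 j + s ^ 3 * t * c 1 j + s ^ 2 * t ^ 2 * c 2 j + s * t ^ 3 * c 3 j + t ^ 4 * c 4 j := by
  simp [cpt, Fin.sum_univ_five]
  try ring

/-- The frame of a degenerate smooth rational quartic. -/
theorem exists_frame [IsAlgClosed k] [CharZero k] {c : Fin (4 + 1) → Fin 5 → k} (hs : Sep c) (hn : Nz c)
    (ν : Fin 5 → k) (hν : ν ≠ 0) (hc : ∀ m, ∑ j, c m j * ν j = 0) :
    ∃ (al be : Fin 4 → k) (P Q U V : Fin 5 → k),
      (∀ s t : k, (s ≠ 0 ∨ t ≠ 0) → cub al s t = 0 → cub be s t = 0 → False) ∧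
      LinearIndependent k ![P, Q, U, V] ∧
      ∀ s t, cpt c s t = cub al s t • (s • P + t • Q) + cub be s t • (s • U + t • V) := by
  -- the functional
  have hdet : (Matrix.of c).det = 0 := Matrix.exists_mulVec_eq_zero_iff.1 ⟨ν, hν, by
    ext m
    simpa [Matrix.mulVec, dotProduct] using hc m⟩
  obtain ⟨l, hl0, hl'⟩ := Matrix.exists_vecMul_eq_zero_iff.2 hdet
  have hl : ∀ j, ∑ m, l m * c m j = 0 := fun j => by
    simpa [Matrix.vecMul, dotProduct] using congrFun hl' j
  -- the two cubics
  let b := finBasisOfFinrankEq k _ (finrank_ker hs hn hl hl0)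
  let al : Fin 4 → k := b 0
  let be : Fin 4 → k := b 1
  have hal : hank l al = 0 := (b 0).2
  have hbe : hank l be = 0 := (b 1).2
  have hspan : ∀ u ∈ LinearMap.ker (hank l), ∃ x y : k, u = x • al + y • be := by
    intro u hu
    refine ⟨b.repr ⟨u, hu⟩ 0, b.repr ⟨u, hu⟩ 1, ?_⟩
    have h1 := congrArg Subtype.val (b.sum_repr ⟨u, hu⟩)
    rw [Fin.sum_univ_two] at h1
    exact h1.symm
  have hli : LinearIndependent k ![al, be] := by
    have h1 : LinearIndependent k (fun i => ((b i : LinearMap.ker (hank l)) : Fin 4 → k)) :=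
      b.linearIndependent.map' (LinearMap.ker (hank l)).subtype (Submodule.ker_subtype _)
    convert h1 using 1
    ext i
    fin_cases i <;> rfl
  have hz : ∀ s t : k, (s ≠ 0 ∨ t ≠ 0) → cub al s t = 0 → cub be s t = 0 → False := by
    intro s t hst h1 h2
    obtain ⟨u, hu, hne⟩ := no_zero hs hn hl hl0 hst
    obtain ⟨x, y, rfl⟩ := hspan u hu
    apply hne
    rw [cub_add, cub_smul, cub_smul, h1, h2, mul_zero, mul_zero, add_zero]
  have hind := indep hli hz
  -- the kernel of the functional
  let L : (Fin 5 → k) →ₗ[k] k := Fintype.linearCombination k l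
  have hL : ∀ y, L y = ∑ m, l m * y m := by
    intro y
    simp only [L, Fintype.linearCombination_apply, smul_eq_mul]
    exact Finset.sum_congr rfl fun m _ => mul_comm _ _
  have hL0 : L ≠ 0 := by
    intro h
    apply hl0
    ext m
    have h1 : L (Pi.single m 1) = 0 := by rw [h]; rfl
    rw [hL] at h1
    simpa [Pi.single_apply] using h1
  have hker : finrank k (LinearMap.ker L) = 4 := by
    have h1 := LinearMap.finrank_range_add_finrank_ker L
    rw [LinearMap.range_eq_top.2 (LinearMap.surjective hL0), finrank_top, finrank_self, finrank_fin_fun] at h1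
    omega
  have he : ∀ i, (![mS al, mT al, mS be, mT be] : Fin 4 → Fin 5 → k) i ∈ LinearMap.ker L := by
    have a1 := congrArg Prod.fst hal
    have a2 := congrArg Prod.snd hal
    have b1 := congrArg Prod.fst hbe
    have b2 := congrArg Prod.snd hbe
    rw [hank_fst] at a1 b1
    rw [hank_snd] at a2 b2
    simp only [Prod.fst_zero, Prod.snd_zero] at a1 a2 b1 b2
    intro i
    rw [LinearMap.mem_ker, hL]
    fin_cases i
    · simp [Fin.sum_univ_five, mS]; linear_combination a1
    · simp [Fin.sum_univ_five, mT]; linear_combination a2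
    · simp [Fin.sum_univ_five, mS]; linear_combination b1
    · simp [Fin.sum_univ_five, mT]; linear_combination b2
  have hsp : Submodule.span k (Set.range ![mS al, mT al, mS be, mT be]) = LinearMap.ker L := by
    refine Submodule.eq_of_le_of_finrank_eq ?_ ?_
    · rw [Submodule.span_le]
      rintro _ ⟨i, rfl⟩
      exact he i
    · rw [finrank_span_eq_card hind, hker, Fintype.card_fin]
  have hg : ∀ j, ∃ a : Fin 4 → k, ∑ i, a i • (![mS al, mT al, mS be, mT be] : Fin 4 → Fin 5 → k) i =
      fun m => c m j := by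
    intro j
    have h1 : (fun m => c m j) ∈ LinearMap.ker L := by
      rw [LinearMap.mem_ker, hL]; exact hl j
    rw [← hsp] at h1
    exact (Submodule.mem_span_range_iff_exists_fun k).1 h1
  choose A hA using hg
  refine ⟨al, be, fun j => A j 0, fun j => A j 1, fun j => A j 2, fun j => A j 3, hz, ?_, fun s t => ?_⟩
  · -- independence
    rw [Fintype.linearIndependent_iff]
    intro x hx
    have hx' : ∀ j, ∑ i, x i * A j i = 0 := by
      intro j
      have h1 := congrFun hx j
      simpa [Fin.sum_univ_four] using h1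
    let f : (Fin 4 → k) →ₗ[k] (Fin 5 → k) := Fintype.linearCombination k ![mS al, mT al, mS be, mT be]
    have hf : LinearMap.ker f = ⊥ := by
      rw [LinearMap.ker_eq_bot]
      exact (linearIndependent_iff_injective_fintypeLinearCombination).1 hind
    obtain ⟨g, hg⟩ := f.exists_leftInverse_of_injective hf
    -- the second functional
    let L' : (Fin 5 → k) →ₗ[k] k := (Fintype.linearCombination k x).comp g
    have hL' : ∀ a, L' (f a) = ∑ i, x i * a i := by
      intro a
      have h1 : g (f a) = a := LinearMap.congr_fun hg a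
      simp only [L', LinearMap.comp_apply, h1, Fintype.linearCombination_apply, smul_eq_mul]
      exact Finset.sum_congr rfl fun m _ => mul_comm _ _
    let l' : Fin 5 → k := fun m => L' (Pi.single m 1)
    have hl'e : ∀ y : Fin 5 → k, L' y = ∑ m, l' m * y m := by
      intro y
      conv_lhs => rw [← Finset.univ_sum_single y]
      rw [map_sum]
      refine Finset.sum_congr rfl fun m _ => ?_
      have : (Pi.single m (y m) : Fin 5 → k) = y m • Pi.single m 1 := by
        rw [← Pi.single_smul, smul_eq_mul, mul_one]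
      rw [this, map_smul, smul_eq_mul, mul_comm]
    have hl'c : ∀ j, ∑ m, l' m * c m j = 0 := by
      intro j
      have h1 : L' (fun m => c m j) = 0 := by
        rw [← hA j]
        change L' (∑ i, A j i • (![mS al, mT al, mS be, mT be] : Fin 4 → Fin 5 → k) i) = 0
        have h2 : f (A j) = ∑ i, A j i • (![mS al, mT al, mS be, mT be] : Fin 4 → Fin 5 → k) i :=
          Fintype.linearCombination_apply _ _ _
        rw [← h2, hL', hx']
      rw [hl'e] at h1
      exact h1
    -- the pencil
    let H : (Fin 5 → k) → Matrix (Fin 3) (Fin 3) k := fun l => !![l 0, l 1, l 2; l 1, l 2, l 3; l 2, l 3, l 4]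
    have hH : ∀ (l : Fin 5 → k), (∀ j, ∑ m, l m * c m j = 0) → ∀ v : Fin 3 → k, v ≠ 0 → (H l).mulVec v = 0 →
        l = 0 := by
      intro l hl v hv h
      have h0 := congrFun h 0
      have h1 := congrFun h 1
      have h2 := congrFun h 2
      simp [H, Matrix.mulVec, dotProduct, Fin.sum_univ_three] at h0 h1 h2
      refine cat hs hn hl (q0 := v 0) (q1 := v 1) (q2 := v 2) ?_ ?_ ?_ ?_
      · rintro ⟨a, b, c⟩
        apply hv
        ext i
        fin_cases i
        exacts [a, b, c]
      · linear_combination h0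
      · linear_combination h1
      · linear_combination h2
    have hHdet : (H l).det ≠ 0 := by
      intro h
      obtain ⟨v, hv, hv'⟩ := Matrix.exists_mulVec_eq_zero_iff.2 h
      exact hl0 (hH l hl v hv hv')
    obtain ⟨τ, hτ⟩ := Module.End.exists_eigenvalue (Matrix.toLin' ((H l)⁻¹ * H l'))
    obtain ⟨v, hv, hv0⟩ := hτ.exists_hasEigenvector
    have hv1 : ((H l)⁻¹ * H l').mulVec v = τ • v := by
      have := Module.End.mem_eigenspace_iff.1 hv
      simpa using this
    have hv2 : (H l').mulVec v = τ • (H l).mulVec v := by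
      have h1 := congrArg (H l).mulVec hv1
      rw [Matrix.mulVec_mulVec, ← Matrix.mul_assoc, Matrix.mul_nonsing_inv _ (isUnit_iff_ne_zero.2 hHdet),
        Matrix.one_mul, Matrix.mulVec_smul] at h1
      exact h1
    have hl'' : l' - τ • l = 0 := by
      refine hH _ (fun j => ?_) v hv0 ?_
      · have h1 := hl j
        have h2 := hl'c j
        simp only [Pi.sub_apply, Pi.smul_apply, smul_eq_mul, sub_mul, Finset.sum_sub_distrib]
        rw [h2, zero_sub, neg_eq_zero]
        simp only [mul_assoc]
        rw [← Finset.mul_sum, h1, mul_zero]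
      · have h1 : H (l' - τ • l) = H l' - τ • H l := by
          ext i j
          fin_cases i <;> fin_cases j <;> simp [H]
        rw [h1, Matrix.sub_mulVec, Matrix.smul_mulVec, hv2, sub_self]
    intro i
    have h1 : L' (f (Pi.single i 1)) = 0 := by
      have h2 : L (f (Pi.single i 1)) = 0 := by
        have h3 : f (Pi.single i 1) = (![mS al, mT al, mS be, mT be] : Fin 4 → Fin 5 → k) i := by
          simp [f, Fintype.linearCombination_apply, Pi.single_apply]
        rw [h3]
        exact he i
      rw [hl'e]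
      rw [hL] at h2
      have h3 : l' = τ • l := sub_eq_zero.1 hl''
      rw [h3]
      simp only [Pi.smul_apply, smul_eq_mul, mul_assoc]
      rw [← Finset.mul_sum, h2, mul_zero]
    rw [hL'] at h1
    simpa [Pi.single_apply] using h1
  · ext j
    have h0 := congrFun (hA j) 0
    have h1 := congrFun (hA j) 1
    have h2 := congrFun (hA j) 2
    have h3 := congrFun (hA j) 3
    have h4 := congrFun (hA j) 4
    simp [Fin.sum_univ_four, mS, mT] at h0 h1 h2 h3 h4
    rw [cpt_four, ← h0, ← h1, ← h2, ← h3, ← h4]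
    simp only [Pi.add_apply, Pi.smul_apply, smul_eq_mul, cub]
    ring

end Groth.Agent.Fano.K51.DegFrame
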