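import Groth.Agent.Fano.K475.RatClass
import Groth.Agent.Fano.K51.DegFrame

/-!
# Coefficient vectors of a closed immersion `P^1 → V_+(f)` of degree `d`

* `exists_par'`: a closed immersion `i : P^1 → V_+(f) ⊂ P^4` of degree `d ≥ 1` is given by coefficient vectors `c`
  with `Sep c`, `Nz c`, and `f` vanishes on the parametrised curve.
* `exists_rel`: if it factors through a hyperplane, the coordinates satisfy a linear relation.
-/

set_option autoImplicit false
universe u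

open CategoryTheory AlgebraicGeometry Limits TopologicalSpace Opposite

namespace Groth.Agent.Fano.K51.DegClass

open LefPen Groth.Agent.Fano.K714.Rat K475.PtCoord K475.RatAlg K475.RatClass K390.PnSec K330.FormSec
open Groth.Agent.Ega2.H295.PnCoord Groth.Agent.Lefpen.H705.HypIdeal

variable {k : Type u} [Field k]

/-- A form which vanishes on the curve vanishes at its points. -/
theorem eval_eq_zero {r : CohB1.ProjSpace 1 k ⟶ CohB1.ProjSpace 4 k} {d e : ℕ} {c : Fin (d + 1) → Fin 5 → k}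
    (hr : r ≫ CohB1.ProjSpace.toSpec 4 k = CohB1.ProjSpace.toSpec 1 k)
    (h1 : GivenBy r (Twist.twistProjSpace 1 k (d : ℤ)) (fun l => glob (bform c l)))
    (G : Form 4 k e) (hG : (hypIdeal G).comap r = ⊥) (s t : k) (hst : s ≠ 0 ∨ t ≠ 0) :
    MvPolynomial.eval (cpt c s t) G.1 = 0 := by
  have hn : Nz c := nz hr h1
  have h2 : (![s, t] : Fin 2 → k) ≠ 0 := by
    intro h
    rcases hst with h3 | h3
    · exact h3 (congrFun h 0)
    · exact h3 (congrFun h 1)
  obtain ⟨j, hj⟩ := Function.ne_iff.1 h2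
  obtain ⟨P, hP⟩ := exists_HC (k := k) _ (IsUnit.mk0 _ hj)
  have h3 := hP.comp hr h1 (IsUnit.mk0 _ hj)
  obtain ⟨l, hl⟩ := hn _ h2
  have h4 : (hypIdeal G).comap (P ≫ r) = ⊥ := by
    rw [Scheme.IdealSheafData.comap_comp, hG, Scheme.IdealSheafData.comap_bot]
  have h5 := h3.2.val_eq_zero (j := l) ((IsUnit.mk0 _ hl).map (γ k)) G h4
  rw [h3.1, val_γ, ev_eq_cpt] at h5
  have h6 := γ_injective k (h5.trans (map_zero _).symm)
  rw [← h6]
  rfl

theorem comap_subschemeι {X : Scheme.{u}} (I : X.IdealSheafData) : I.comap I.subschemeι = ⊥ := by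
  rw [← le_bot_iff, ← Scheme.IdealSheafData.le_map_iff_comap_le, Scheme.IdealSheafData.map_bot,
    Scheme.IdealSheafData.ker_subschemeι]

theorem exists_par' (f : LefPen.Form 4 k 3) {d : ℕ} (hd : 1 ≤ d)
    (i : CohB1.ProjSpace 1 k ⟶ Xf f) [IsClosedImmersion i]
    (hi : i ≫ ps f = CohB1.ProjSpace.toSpec 1 k)
    (hdeg : Nonempty ((Scheme.Modules.pullback (i ≫ emb f)).obj (Twist.twistProjSpace 4 k 1) ≅
      Twist.twistProjSpace 1 k (d : ℤ))) :
    ∃ c : Fin (d + 1) → Fin 5 → k, IsPar f d c i ∧ Sep c ∧ Nz c ∧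
      ∀ s t : k, MvPolynomial.eval (cpt c s t) f.1 = 0 := by
  obtain ⟨τ⟩ := hdeg
  have hr : (i ≫ emb f) ≫ CohB1.ProjSpace.toSpec 4 k = CohB1.ProjSpace.toSpec 1 k := by
    rw [Category.assoc]; exact hi
  have h0 : ∀ l, ∃ F : Form 1 k d, τ.hom.app ⊤ (tsec (i ≫ emb f) l) = glob F := by
    intro l
    obtain ⟨F, hF⟩ := K699.TwHom.exists_poly (n := 1) (R := k) (τ.hom.app ⊤ (tsec (i ≫ emb f) l))
    refine ⟨F, tv_ext fun x => ?_⟩
    rw [tv_glob]
    exact hF x.1 x.2
  choose F hF using h0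
  obtain ⟨c, hc⟩ := exists_bform F
  have h1 : GivenBy (i ≫ emb f) (Twist.twistProjSpace 1 k (d : ℤ)) (fun l => glob (bform c l)) :=
    ⟨τ, fun l => (hF l).trans (congrArg glob (hc l).symm)⟩
  refine ⟨c, ⟨hi, h1⟩, sep hr h1, nz hr h1, fun s t => ?_⟩
  by_cases h2 : s = 0 ∧ t = 0
  · obtain ⟨rfl, rfl⟩ := h2
    rw [cpt_zero (by omega)]
    have h3 : f.1.IsHomogeneous 3 := (MvPolynomial.mem_homogeneousSubmodule 3 _).1 f.2
    have h4 := eval₂_smul_of_homogeneous (RingHom.id k) (0 : Fin 5 → k) 0 h3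
    rw [zero_pow (by norm_num), zero_mul] at h4
    have h5 : (fun l => (0 : k) * (0 : Fin 5 → k) l) = 0 := by funext l; exact zero_mul _
    rw [h5, MvPolynomial.eval₂_id] at h4
    exact h4
  · have hG : (hypIdeal f).comap (i ≫ emb f) = ⊥ := by
      rw [Scheme.IdealSheafData.comap_comp]
      have h5 : (hypIdeal f).comap (emb f) = ⊥ := comap_subschemeι _
      rw [h5, Scheme.IdealSheafData.comap_bot]
    refine eval_eq_zero hr h1 f hG s t ?_
    by_contra hc
    push Not at hc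
    exact h2 hc

/-- The linear relation between the coordinates. -/
theorem exists_rel [Infinite k] [CharZero k] {f : LefPen.Form 4 k 3} {c : Fin (4 + 1) → Fin 5 → k}
    {i : CohB1.ProjSpace 1 k ⟶ Xf f} (hi : IsPar f 4 c i) (l : Form 4 k 1) (hl : l ≠ 0)
    (j : CohB1.ProjSpace 1 k ⟶ (hypIdeal l).subscheme) (hj : j ≫ (hypIdeal l).subschemeι = i ≫ emb f) :
    ∃ ν : Fin 5 → k, ν ≠ 0 ∧ ∀ m, ∑ j, c m j * ν j = 0 := by
  have hr : (i ≫ emb f) ≫ CohB1.ProjSpace.toSpec 4 k = CohB1.ProjSpace.toSpec 1 k := by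
    rw [Category.assoc]; exact hi.1
  have hG : (hypIdeal l).comap (i ≫ emb f) = ⊥ := by
    rw [← hj, Scheme.IdealSheafData.comap_comp, comap_subschemeι, Scheme.IdealSheafData.comap_bot]
  have h1 := eval_eq_zero (d := 4) hr hi.2 l hG
  have hl1 : l.1.IsHomogeneous 1 := (MvPolynomial.mem_homogeneousSubmodule 1 _).1 l.2
  have hev := K656.Trilin.eval_euler1 hl1
  obtain ⟨ν, hν⟩ : ∃ ν : Fin 5 → k, ν = fun i => MvPolynomial.eval 0 (MvPolynomial.pderiv i l.1) := ⟨_, rfl⟩
  have hev' : ∀ v, MvPolynomial.eval v l.1 = ∑ i, ν i * v i := fun v => by rw [hν]; exact hev v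
  refine ⟨ν, fun h0 => hl ?_, fun m => ?_⟩
  · apply Subtype.ext
    change l.1 = 0
    apply MvPolynomial.funext
    intro x
    rw [hev', h0, map_zero]
    simp
  · have h2 : ∀ s t : k, (s ≠ 0 ∨ t ≠ 0) →
        s ^ 4 * (∑ j, c 0 j * ν j) + s ^ 3 * t * (∑ j, c 1 j * ν j) + s ^ 2 * t ^ 2 * (∑ j, c 2 j * ν j) +
          s * t ^ 3 * (∑ j, c 3 j * ν j) + t ^ 4 * (∑ j, c 4 j * ν j) = 0 := by
      intro s t hst
      have h3 := h1 s t hst
      rw [hev'] at h3
      simp only [DegFrame.cpt_four] at h3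
      rw [← h3]
      simp only [Finset.mul_sum]
      rw [← Finset.sum_add_distrib, ← Finset.sum_add_distrib, ← Finset.sum_add_distrib, ← Finset.sum_add_distrib]
      refine Finset.sum_congr rfl fun j _ => by ring
    have g0 := h2 1 0 (Or.inl one_ne_zero)
    have g4 := h2 0 1 (Or.inr one_ne_zero)
    have g1 := h2 1 1 (Or.inl one_ne_zero)
    have g2 := h2 1 (-1) (Or.inl one_ne_zero)
    have g3 := h2 1 2 (Or.inl one_ne_zero)
    have e0 : (∑ j, c 0 j * ν j) = 0 := by linear_combination g0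
    have e4 : (∑ j, c 4 j * ν j) = 0 := by linear_combination g4
    have e2 : (∑ j, c 2 j * ν j) = 0 := by
      have h6 : (2 : k) ≠ 0 := two_ne_zero
      apply (mul_eq_zero.1 (?_ : (2 : k) * _ = 0)).resolve_left h6
      linear_combination g1 + g2 - 2 * e0 - 2 * e4
    have e3 : (∑ j, c 3 j * ν j) = 0 := by
      have h6 : (6 : k) ≠ 0 := by norm_num
      apply (mul_eq_zero.1 (?_ : (6 : k) * _ = 0)).resolve_left h6
      linear_combination g3 - g1 + g2 - 4 * e2 - e0 - 16 * e4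
    have e1 : (∑ j, c 1 j * ν j) = 0 := by linear_combination g1 - e0 - e2 - e3 - e4
    fin_cases m
    exacts [e0, e1, e2, e3, e4]

end Groth.Agent.Fano.K51.DegClass
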