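import Groth.Agent.Fano.K714.Comp

/-!
# Dimension of an affine scheme with independent equations

`dim_le`: if the gradients of the equations are linearly independent at every `k`-point then
`dim k[X]/(h) ≤ N - #h`.
-/

set_option autoImplicit false
universe u

namespace Groth.Agent.Fano.K51.DegDim

open MvPolynomial IsLocalRing K714.Comp Groth.Agent.Lefpen.H718.Reg

variable {k : Type u} [Field k]

theorem exists_eq_mx [IsAlgClosed k] {N : ℕ} (q : Ideal (MvPolynomial (Fin N) k)) [q.IsMaximal] :
    ∃ x, q = mx x := by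
  obtain ⟨x, hx⟩ := isMaximal_iff_eq_vanishingIdeal_singleton.1 ‹q.IsMaximal›
  refine ⟨x, ?_⟩
  rw [hx]
  ext p
  rw [mem_vanishingIdeal_singleton_iff, mem_mx]
  rfl

theorem dim_le [IsAlgClosed k] {N n : ℕ} {ι : Type} [Finite ι] (h : ι → MvPolynomial (Fin N) k)
    (hn : N ≤ n + Nat.card ι)
    (hlin : ∀ x : Fin N → k, (∀ i, eval x (h i) = 0) →
      LinearIndependent k (fun i : ι => fun l : Fin N => eval x (pderiv l (h i)))) :
    ringKrullDim (MvPolynomial (Fin N) k ⧸ Ideal.span (Set.range h)) ≤ n := by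
  rw [ringKrullDim_le_iff_isMaximal_height_le]
  intro m hm
  let q : Ideal (MvPolynomial (Fin N) k) := m.comap (Ideal.Quotient.mk (Ideal.span (Set.range h)))
  have hq : q.IsMaximal := Ideal.comap_isMaximal_of_surjective _ Ideal.Quotient.mk_surjective
  obtain ⟨x, hx⟩ := exists_eq_mx q
  have hP : ∀ i, h i ∈ q := fun i => by
    change Ideal.Quotient.mk (Ideal.span (Set.range h)) (h i) ∈ m
    have h0 : Ideal.Quotient.mk (Ideal.span (Set.range h)) (h i) = 0 :=
      Ideal.Quotient.eq_zero_iff_mem.2 (Ideal.subset_span ⟨i, rfl⟩)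
    rw [h0]
    exact zero_mem _
  have hev : ∀ i, eval x (h i) = 0 := fun i => by
    rw [← mem_mx, ← hx]; exact hP i
  have hli : LinearIndependent q.ResidueField (fun i : ι => fun l : Fin N =>
      algebraMap (MvPolynomial (Fin N) k) q.ResidueField (pderiv l (h i))) := by
    have h1 := lin_residue x (fun i l => pderiv l (h i)) (hlin x hev)
    have key : ∀ (q' : Ideal (MvPolynomial (Fin N) k)) [q'.IsPrime], q' = mx x →
        LinearIndependent q'.ResidueField (fun i : ι => fun l : Fin N =>
          algebraMap (MvPolynomial (Fin N) k) q'.ResidueField (pderiv l (h i))) := by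
      intro q' _ hq'
      subst hq'
      exact h1
    exact key q hx
  obtain ⟨-, h2⟩ := regular_quotient q h hP hli
  have h3 : Ideal.span (Set.range fun i => algebraMap (MvPolynomial (Fin N) k) (Localization.AtPrime q) (h i)) =
      (Ideal.span (Set.range h)).map (algebraMap _ (Localization.AtPrime q)) := by
    rw [Ideal.map_span, ← Set.range_comp]
    rfl
  rw [h3] at h2
  obtain ⟨e⟩ := nonempty_quotient_equiv (MvPolynomial (Fin N) k) (Ideal.span (Set.range h)) m
  have h4 : (m.height : WithBot ℕ∞) + (Nat.card ι : ℕ) = q.height := by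
    rw [← IsLocalization.AtPrime.ringKrullDim_eq_height m (Localization.AtPrime m),
      ← IsLocalization.AtPrime.ringKrullDim_eq_height q (Localization.AtPrime q), ← h2,
      ringKrullDim_eq_of_ringEquiv e]
  have h5 : (q.height : WithBot ℕ∞) ≤ N := by
    have h6 := Ideal.height_le_ringKrullDim_of_ne_top (I := q) Ideal.IsPrime.ne_top'
    rw [MvPolynomial.ringKrullDim_of_isNoetherianRing] at h6
    refine h6.trans ?_
    rw [ringKrullDim_eq_zero_of_field]
    simp
  have h6 : m.height + (Nat.card ι : ℕ∞) ≤ (N : ℕ∞) := by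
    have : ((m.height + (Nat.card ι : ℕ∞) : ℕ∞) : WithBot ℕ∞) ≤ ((N : ℕ∞) : WithBot ℕ∞) := by
      push_cast
      rw [h4]
      exact h5
    exact_mod_cast this
  have h7 : m.height + (Nat.card ι : ℕ∞) ≤ (n : ℕ∞) + (Nat.card ι : ℕ∞) := h6.trans (by exact_mod_cast hn)
  have h8 : m.height ≤ (n : ℕ∞) := (ENat.add_le_add_iff_right (ENat.natCast_ne_top _)).1 h7
  exact_mod_cast h8

end Groth.Agent.Fano.K51.DegDim
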