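import Groth.Agent.Fano.K51.DegEq

/-!
# Degenerate rational quartics: the parameter spaces have dimension at most `7`
-/

set_option autoImplicit false
universe u

namespace Groth.Agent.Fano.K51.DegDim7

open Module MvPolynomial K656.Trilin K714.Frames Groth.Agent.Fano.K51.DegTB Groth.Agent.Fano.K51.DegDim
  Groth.Agent.Fano.K51.DegEq

variable {k : Type u} [Field k] {T : (Fin 5 → k) →ₗ[k] (Fin 5 → k) →ₗ[k] (Fin 5 → k) →ₗ[k] k}

/-- The values of the line equations. -/
theorem eqL_val {x : Fin (4 * 5) → k} {a b : Fin 4} (h : ∀ n, eval x (eqL T a b n) = 0) :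
    T (vec x a) (vec x a) (vec x a) = 0 ∧ T (vec x a) (vec x a) (vec x b) = 0 ∧
      T (vec x a) (vec x b) (vec x b) = 0 ∧ T (vec x b) (vec x b) (vec x b) = 0 := by
  have h0 := h 0
  have h1 := h 1
  have h2 := h 2
  have h3 := h 3
  simp only [eqL, Matrix.cons_val, eval_pT, eval_Xv] at h0 h1 h2 h3
  exact ⟨h0, h1, h2, h3⟩

/-- The values of the equations for a second vector. -/
theorem eqM_val {x : Fin (4 * 5) → k} (h : ∀ n, eval x (eqM T n) = 0) :
    T (vec x 0) (vec x 2) (vec x 2) = 0 ∧ 2 * T (vec x 0) (vec x 2) (vec x 3) + T (vec x 1) (vec x 2) (vec x 2) = 0 ∧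
      T (vec x 0) (vec x 3) (vec x 3) + 2 * T (vec x 1) (vec x 2) (vec x 3) = 0 ∧
      T (vec x 1) (vec x 3) (vec x 3) = 0 := by
  have h0 := h 0
  have h1 := h 1
  have h2 := h 2
  have h3 := h 3
  simp only [eqM, Matrix.cons_val, map_add, map_mul, map_ofNat, eval_pT, eval_Xv] at h0 h1 h2 h3
  exact ⟨h0, h1, h2, h3⟩

theorem eqS_val {x : Fin (4 * 5) → k} {a b : Fin 4} {i j : Fin 5}
    (h : ∀ n, eval x (eqS a b i j n : MvPolynomial (Fin (4 * 5)) k) = 0) :
    vec x a i = 1 ∧ vec x a j = 0 ∧ vec x b i = 0 ∧ vec x b j = 1 := by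
  have h0 := h 0
  have h1 := h 1
  have h2 := h 2
  have h3 := h 3
  simp only [eqS, Matrix.cons_val, map_sub, map_one, eval_X] at h0 h1 h2 h3
  exact ⟨sub_eq_zero.1 h0, h1, h2, sub_eq_zero.1 h3⟩

theorem sum_idx (F : Fin 4 ⊕ Fin 4 ⊕ Fin 4 ⊕ Unit → k) : ∑ i, F i =
    (∑ n, F (Sum.inl n)) + ((∑ n, F (Sum.inr (Sum.inl n))) + ((∑ n, F (Sum.inr (Sum.inr (Sum.inl n)))) +
      F (Sum.inr (Sum.inr (Sum.inr ()))))) := by
  have h : ∑ a, F (Sum.inr (Sum.inr (Sum.inr a))) = F (Sum.inr (Sum.inr (Sum.inr ()))) :=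
    Fintype.sum_unique (fun a : Unit => F (Sum.inr (Sum.inr (Sum.inr a))))
  rw [Fintype.sum_sum_type, Fintype.sum_sum_type, Fintype.sum_sum_type, h]

theorem card_idx : 4 * 5 ≤ 7 + Nat.card (Fin 4 ⊕ Fin 4 ⊕ Fin 4 ⊕ Unit) := by
  rw [Nat.card_eq_fintype_card]
  simp

/-- The first parameter space has dimension at most `7`. -/
theorem dim_I [IsAlgClosed k] [CharZero k] (hT : IsSym3 T) (hsm : K714.Surf.SmoothOn T ⊤) (i j i' j' : Fin 5) :
    ringKrullDim (MvPolynomial (Fin (4 * 5)) k ⧸ Ideal.span (Set.range (hI T i j i' j'))) ≤ (7 : ℕ) := by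
  refine dim_le _ card_idx fun x hx => ?_
  obtain ⟨p1, p2, p3, p4⟩ := eqL_val (T := T) (a := 0) (b := 1) (x := x) (fun n => hx (Sum.inl n))
  obtain ⟨u1, u2, u3, u4⟩ := eqL_val (T := T) (a := 2) (b := 3) (x := x) (fun n => hx (Sum.inr (Sum.inl n)))
  obtain ⟨s1, s2, s3, s4⟩ := eqS_val (a := 0) (b := 1) (x := x) (fun n => hx (Sum.inr (Sum.inr (Sum.inl n))))
  have hΔ : vec x 2 i' * vec x 3 j' - vec x 2 j' * vec x 3 i' = 1 := by
    have := hx (Sum.inr (Sum.inr (Sum.inr ())))
    simp only [hI, Sum.elim_inr, map_sub, map_mul, map_one, eval_X] at this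
    exact sub_eq_zero.1 this
  rw [Fintype.linearIndependent_iff]
  intro c hc
  have key := rel_of hc
  obtain ⟨c1, hc1⟩ : ∃ c1 : Fin 4 → k, c1 = fun n => c (Sum.inl n) := ⟨_, rfl⟩
  obtain ⟨c2, hc2⟩ : ∃ c2 : Fin 4 → k, c2 = fun n => c (Sum.inr (Sum.inl n)) := ⟨_, rfl⟩
  obtain ⟨c3, hc3⟩ : ∃ c3 : Fin 4 → k, c3 = fun n => c (Sum.inr (Sum.inr (Sum.inl n))) := ⟨_, rfl⟩
  obtain ⟨c4, hc4⟩ : ∃ c4 : k, c4 = c (Sum.inr (Sum.inr (Sum.inr ()))) := ⟨_, rfl⟩
  have key' : ∀ l : Fin (4 * 5), (∑ n, c1 n * eval x (pderiv l (eqL T 0 1 n))) +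
      ((∑ n, c2 n * eval x (pderiv l (eqL T 2 3 n))) + ((∑ n, c3 n * eval x (pderiv l (eqS 0 1 i j n))) +
        c4 * eval x (pderiv l (X (ix 2 i') * X (ix 3 j') - X (ix 2 j') * X (ix 3 i') - 1)))) = 0 := by
    intro l
    have h := key l
    rw [sum_idx] at h
    rw [hc1, hc2, hc3, hc4]
    exact h
  -- the derivative of the last equation
  have hD : ∀ l : Fin (4 * 5), eval x (pderiv l (X (ix 2 i') * X (ix 3 j') - X (ix 2 j') * X (ix 3 i') - 1)) =
      eval x (pderiv l (X (ix 2 i'))) * vec x 3 j' + vec x 2 i' * eval x (pderiv l (X (ix 3 j'))) -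
        (eval x (pderiv l (X (ix 2 j'))) * vec x 3 i' + vec x 2 j' * eval x (pderiv l (X (ix 3 i')))) := by
    intro l
    simp only [map_sub, Derivation.leibniz, smul_eq_mul, Derivation.map_one_eq_zero, map_add, map_mul, eval_X,
      sub_zero, vec]
    ring
  have g0 : ∀ w, 3 * c1 0 * T (vec x 0) (vec x 0) (Pi.single w 1) + 2 * c1 1 * T (vec x 0) (vec x 1) (Pi.single w 1) +
      c1 2 * T (vec x 1) (vec x 1) (Pi.single w 1) + (c3 0 * (Pi.single w 1 : Fin 5 → k) i +
        c3 1 * (Pi.single w 1 : Fin 5 → k) j) = 0 := by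
    intro w
    have h := key' (ix 0 w)
    have n2 := congrFun (pd_ne (k := k) (a := 0) (b := 2) (by decide) w x)
    have n3 := congrFun (pd_ne (k := k) (a := 0) (b := 3) (by decide) w x)
    simp only [Xv, Pi.zero_apply] at n2 n3
    rw [eqL_pd hT (by decide), eqL_pd_ne (by decide) (by decide), eqS_pd (by decide), hD, n2, n2, n3, n3] at h
    linear_combination h
  have g1 : ∀ w, c1 1 * T (vec x 0) (vec x 0) (Pi.single w 1) + 2 * c1 2 * T (vec x 0) (vec x 1) (Pi.single w 1) +
      3 * c1 3 * T (vec x 1) (vec x 1) (Pi.single w 1) + (c3 2 * (Pi.single w 1 : Fin 5 → k) i +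
        c3 3 * (Pi.single w 1 : Fin 5 → k) j) = 0 := by
    intro w
    have h := key' (ix 1 w)
    have n2 := congrFun (pd_ne (k := k) (a := 1) (b := 2) (by decide) w x)
    have n3 := congrFun (pd_ne (k := k) (a := 1) (b := 3) (by decide) w x)
    simp only [Xv, Pi.zero_apply] at n2 n3
    rw [eqL_pd' hT (by decide), eqL_pd_ne (by decide) (by decide), eqS_pd' (by decide), hD, n2, n2, n3, n3] at h
    linear_combination h
  have g2 : ∀ w, 3 * c2 0 * T (vec x 2) (vec x 2) (Pi.single w 1) + 2 * c2 1 * T (vec x 2) (vec x 3) (Pi.single w 1) +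
      c2 2 * T (vec x 3) (vec x 3) (Pi.single w 1) + c4 * ((Pi.single w 1 : Fin 5 → k) i' * vec x 3 j' -
        (Pi.single w 1 : Fin 5 → k) j' * vec x 3 i') = 0 := by
    intro w
    have h := key' (ix 2 w)
    have n2 := congrFun (pd_self (k := k) 2 w x)
    have n3 := congrFun (pd_ne (k := k) (a := 2) (b := 3) (by decide) w x)
    simp only [Xv, Pi.zero_apply] at n2 n3
    rw [eqL_pd hT (by decide), eqL_pd_ne (by decide) (by decide), eqS_pd_ne (by decide) (by decide), hD, n2, n2, n3,
      n3] at h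
    linear_combination h
  have g3 : ∀ w, c2 1 * T (vec x 2) (vec x 2) (Pi.single w 1) + 2 * c2 2 * T (vec x 2) (vec x 3) (Pi.single w 1) +
      3 * c2 3 * T (vec x 3) (vec x 3) (Pi.single w 1) + c4 * (vec x 2 i' * (Pi.single w 1 : Fin 5 → k) j' -
        vec x 2 j' * (Pi.single w 1 : Fin 5 → k) i') = 0 := by
    intro w
    have h := key' (ix 3 w)
    have n2 := congrFun (pd_self (k := k) 3 w x)
    have n3 := congrFun (pd_ne (k := k) (a := 3) (b := 2) (by decide) w x)
    simp only [Xv, Pi.zero_apply] at n2 n3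
    rw [eqL_pd' hT (by decide), eqL_pd_ne (by decide) (by decide), eqS_pd_ne (by decide) (by decide), hD, n2, n2, n3,
      n3] at h
    linear_combination h
  obtain ⟨z1, z3⟩ := rel_line hT hsm s1 s2 s3 s4 p1 p2 p3 p4 (c := c1) (e := c3)
    (fun u => by
      have := ext_single ((3 * c1 0) • T (vec x 0) (vec x 0) + (2 * c1 1) • T (vec x 0) (vec x 1) +
        c1 2 • T (vec x 1) (vec x 1) + (c3 0 • LinearMap.proj i + c3 1 • LinearMap.proj j)) (fun w => by
        simpa using g0 w) u
      simpa using this)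
    (fun u => by
      have := ext_single (c1 1 • T (vec x 0) (vec x 0) + (2 * c1 2) • T (vec x 0) (vec x 1) +
        (3 * c1 3) • T (vec x 1) (vec x 1) + (c3 2 • LinearMap.proj i + c3 3 • LinearMap.proj j)) (fun w => by
        simpa using g1 w) u
      simpa using this)
  have G2 : ∀ u : Fin 5 → k, 3 * c2 0 * T (vec x 2) (vec x 2) u + 2 * c2 1 * T (vec x 2) (vec x 3) u +
      c2 2 * T (vec x 3) (vec x 3) u + c4 * (u i' * vec x 3 j' - u j' * vec x 3 i') = 0 := fun u => by
    have := ext_single ((3 * c2 0) • T (vec x 2) (vec x 2) + (2 * c2 1) • T (vec x 2) (vec x 3) +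
      c2 2 • T (vec x 3) (vec x 3) + ((c4 * vec x 3 j') • LinearMap.proj i' - (c4 * vec x 3 i') • LinearMap.proj j'))
        (fun w => by
          have := g2 w
          simp only [LinearMap.add_apply, LinearMap.sub_apply, LinearMap.smul_apply, LinearMap.proj_apply,
            smul_eq_mul]
          linear_combination this) u
    simp only [LinearMap.add_apply, LinearMap.sub_apply, LinearMap.smul_apply, LinearMap.proj_apply,
      smul_eq_mul] at this
    linear_combination this
  have G3 : ∀ u : Fin 5 → k, c2 1 * T (vec x 2) (vec x 2) u + 2 * c2 2 * T (vec x 2) (vec x 3) u +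
      3 * c2 3 * T (vec x 3) (vec x 3) u + c4 * (vec x 2 i' * u j' - vec x 2 j' * u i') = 0 := fun u => by
    have := ext_single (c2 1 • T (vec x 2) (vec x 2) + (2 * c2 2) • T (vec x 2) (vec x 3) +
      (3 * c2 3) • T (vec x 3) (vec x 3) +
        ((c4 * vec x 2 i') • LinearMap.proj j' - (c4 * vec x 2 j') • LinearMap.proj i'))
        (fun w => by
          have := g3 w
          simp only [LinearMap.add_apply, LinearMap.sub_apply, LinearMap.smul_apply, LinearMap.proj_apply,
            smul_eq_mul]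
          linear_combination this) u
    simp only [LinearMap.add_apply, LinearMap.sub_apply, LinearMap.smul_apply, LinearMap.proj_apply,
      smul_eq_mul] at this
    linear_combination this
  have z4 : c4 = 0 := by
    have h := G2 (vec x 2)
    rw [u1, hT.s23 (vec x 2) (vec x 3) (vec x 2), u2, hT.rot' (vec x 3) (vec x 3) (vec x 2), u3] at h
    linear_combination h - c4 * hΔ
  have hFR : (vec x 2, vec x 3) ∈ FR T := by
    refine ⟨?_, u1, u2, u3, u4⟩
    rw [LinearIndependent.pair_iff]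
    intro s t hst
    have g1 := congrFun hst i'
    have g2 := congrFun hst j'
    simp only [Pi.add_apply, Pi.smul_apply, smul_eq_mul, Pi.zero_apply] at g1 g2
    constructor
    · linear_combination vec x 3 j' * g1 - vec x 3 i' * g2 - s * hΔ
    · linear_combination vec x 2 i' * g2 - vec x 2 j' * g1 - t * hΔ
  have z2 := no_relation hT hsm hFR (c0 := c2 0) (c1 := c2 1) (c2 := c2 2) (c3 := c2 3)
    (fun u => by have := G2 u; rw [z4] at this; linear_combination this)
    (fun u => by have := G3 u; rw [z4] at this; linear_combination this)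
  rintro (n | n | n | n)
  · have := z1 n; rw [hc1] at this; exact this
  · have : c2 n = 0 := by
      fin_cases n
      exacts [z2.1, z2.2.1, z2.2.2.1, z2.2.2.2]
    rw [hc2] at this; exact this
  · have := z3 n; rw [hc3] at this; exact this
  · rw [← hc4]; exact z4

theorem eqM_pd0 (hT : IsSym3 T) (x : Fin (4 * 5) → k) (c : Fin 4 → k) (j : Fin 5) :
    ∑ i, c i * eval x (pderiv (ix 0 j) (eqM T i)) =
      c 0 * T (vec x 2) (vec x 2) (Pi.single j 1) + 2 * c 1 * T (vec x 2) (vec x 3) (Pi.single j 1) +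
      c 2 * T (vec x 3) (vec x 3) (Pi.single j 1) := by
  have s1 : ∀ u v w, T u v w = T v w u := hT.rot
  have n1 := pd_ne (k := k) (a := 0) (b := 1) (by decide) j x
  have n2 := pd_ne (k := k) (a := 0) (b := 2) (by decide) j x
  have n3 := pd_ne (k := k) (a := 0) (b := 3) (by decide) j x
  have e2 : ∀ (l : Fin (4 * 5)) (F : MvPolynomial (Fin (4 * 5)) k), pderiv l (2 * F) = 2 * pderiv l F := by
    intro l F
    have : (2 : MvPolynomial (Fin (4 * 5)) k) = C 2 := (map_ofNat C 2).symm
    rw [this, pderiv_C_mul]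
  simp only [Fin.sum_univ_four, eqM, Matrix.cons_val, map_add, map_mul, map_ofNat, e2, pderiv_pT, eval_pT, pd_self,
    n1, n2, n3, eval_Xv, map_zero, LinearMap.zero_apply, add_zero, mul_zero]
  rw [s1 (Pi.single j 1) (vec x 2) (vec x 2), s1 (Pi.single j 1) (vec x 2) (vec x 3),
    s1 (Pi.single j 1) (vec x 3) (vec x 3)]
  ring

theorem eqM_pd1 (hT : IsSym3 T) (x : Fin (4 * 5) → k) (c : Fin 4 → k) (j : Fin 5) :
    ∑ i, c i * eval x (pderiv (ix 1 j) (eqM T i)) =
      c 1 * T (vec x 2) (vec x 2) (Pi.single j 1) + 2 * c 2 * T (vec x 2) (vec x 3) (Pi.single j 1) +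
      c 3 * T (vec x 3) (vec x 3) (Pi.single j 1) := by
  have s1 : ∀ u v w, T u v w = T v w u := hT.rot
  have n1 := pd_ne (k := k) (a := 1) (b := 0) (by decide) j x
  have n2 := pd_ne (k := k) (a := 1) (b := 2) (by decide) j x
  have n3 := pd_ne (k := k) (a := 1) (b := 3) (by decide) j x
  have e2 : ∀ (l : Fin (4 * 5)) (F : MvPolynomial (Fin (4 * 5)) k), pderiv l (2 * F) = 2 * pderiv l F := by
    intro l F
    have : (2 : MvPolynomial (Fin (4 * 5)) k) = C 2 := (map_ofNat C 2).symm
    rw [this, pderiv_C_mul]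
  simp only [Fin.sum_univ_four, eqM, Matrix.cons_val, map_add, map_mul, map_ofNat, e2, pderiv_pT, eval_pT, pd_self,
    n1, n2, n3, eval_Xv, map_zero, LinearMap.zero_apply, add_zero, zero_add, mul_zero]
  rw [s1 (Pi.single j 1) (vec x 2) (vec x 2), s1 (Pi.single j 1) (vec x 2) (vec x 3),
    s1 (Pi.single j 1) (vec x 3) (vec x 3)]
  ring

/-- The second parameter space has dimension at most `7`. -/
theorem dim_II [IsAlgClosed k] [CharZero k] (hT : IsSym3 T) (hsm : K714.Surf.SmoothOn T ⊤) (i j r : Fin 5)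
    (b : Bool) :
    ringKrullDim (MvPolynomial (Fin (4 * 5)) k ⧸ Ideal.span (Set.range (hII T i j r b))) ≤ (7 : ℕ) := by
  refine dim_le _ card_idx fun x hx => ?_
  obtain ⟨p1, p2, p3, p4⟩ := eqM_val (T := T) (x := x) (fun n => hx (Sum.inl n))
  obtain ⟨u1, u2, u3, u4⟩ := eqL_val (T := T) (a := 2) (b := 3) (x := x) (fun n => hx (Sum.inr (Sum.inl n)))
  obtain ⟨s1, s2, s3, s4⟩ := eqS_val (a := 2) (b := 3) (x := x) (fun n => hx (Sum.inr (Sum.inr (Sum.inl n))))
  have hr : vec x (cond b 0 1) r = 1 := by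
    have := hx (Sum.inr (Sum.inr (Sum.inr ())))
    simp only [hII, Sum.elim_inr, map_sub, map_one, eval_X] at this
    exact sub_eq_zero.1 this
  rw [Fintype.linearIndependent_iff]
  intro c hc
  have key := rel_of hc
  obtain ⟨c1, hc1⟩ : ∃ c1 : Fin 4 → k, c1 = fun n => c (Sum.inl n) := ⟨_, rfl⟩
  obtain ⟨c2, hc2⟩ : ∃ c2 : Fin 4 → k, c2 = fun n => c (Sum.inr (Sum.inl n)) := ⟨_, rfl⟩
  obtain ⟨c3, hc3⟩ : ∃ c3 : Fin 4 → k, c3 = fun n => c (Sum.inr (Sum.inr (Sum.inl n))) := ⟨_, rfl⟩
  obtain ⟨c4, hc4⟩ : ∃ c4 : k, c4 = c (Sum.inr (Sum.inr (Sum.inr ()))) := ⟨_, rfl⟩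
  have key' : ∀ l : Fin (4 * 5), (∑ n, c1 n * eval x (pderiv l (eqM T n))) +
      ((∑ n, c2 n * eval x (pderiv l (eqL T 2 3 n))) + ((∑ n, c3 n * eval x (pderiv l (eqS 2 3 i j n))) +
        c4 * eval x (pderiv l (X (ix (cond b 0 1) r) - 1)))) = 0 := by
    intro l
    have h := key l
    rw [sum_idx] at h
    rw [hc1, hc2, hc3, hc4]
    exact h
  have hD : ∀ l : Fin (4 * 5), eval x (pderiv l (X (ix (cond b 0 1) r) - 1)) =
      eval x (pderiv l (X (ix (cond b 0 1) r))) := by
    intro l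
    simp only [map_sub, Derivation.map_one_eq_zero, sub_zero]
  obtain ⟨z1, z4⟩ : (∀ n, c1 n = 0) ∧ c4 = 0 := by
    have main : ∀ (e0 e1 : k), e0 * vec x 0 r + e1 * vec x 1 r = c4 →
        (∀ w, c1 0 * T (vec x 2) (vec x 2) (Pi.single w 1) + 2 * c1 1 * T (vec x 2) (vec x 3) (Pi.single w 1) +
          c1 2 * T (vec x 3) (vec x 3) (Pi.single w 1) + e0 * (Pi.single w 1 : Fin 5 → k) r = 0) →
        (∀ w, c1 1 * T (vec x 2) (vec x 2) (Pi.single w 1) + 2 * c1 2 * T (vec x 2) (vec x 3) (Pi.single w 1) +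
          c1 3 * T (vec x 3) (vec x 3) (Pi.single w 1) + e1 * (Pi.single w 1 : Fin 5 → k) r = 0) →
        (c4 = 0 → e0 = 0 ∧ e1 = 0) → (∀ n, c1 n = 0) ∧ c4 = 0 := by
      intro e0 e1 he g0 g1 hz
      have G0 : ∀ u : Fin 5 → k, c1 0 * T (vec x 2) (vec x 2) u + 2 * c1 1 * T (vec x 2) (vec x 3) u +
          c1 2 * T (vec x 3) (vec x 3) u + e0 * u r = 0 := fun u => by
        have := ext_single (c1 0 • T (vec x 2) (vec x 2) + (2 * c1 1) • T (vec x 2) (vec x 3) +
          c1 2 • T (vec x 3) (vec x 3) + e0 • LinearMap.proj r) (fun w => by simpa using g0 w) u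
        simpa using this
      have G1 : ∀ u : Fin 5 → k, c1 1 * T (vec x 2) (vec x 2) u + 2 * c1 2 * T (vec x 2) (vec x 3) u +
          c1 3 * T (vec x 3) (vec x 3) u + e1 * u r = 0 := fun u => by
        have := ext_single (c1 1 • T (vec x 2) (vec x 2) + (2 * c1 2) • T (vec x 2) (vec x 3) +
          c1 3 • T (vec x 3) (vec x 3) + e1 • LinearMap.proj r) (fun w => by simpa using g1 w) u
        simpa using this
      have hz4 : c4 = 0 := by
        have h0 := G0 (vec x 0)
        have h1 := G1 (vec x 1)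
        rw [hT.rot' (vec x 2) (vec x 2) (vec x 0), hT.rot' (vec x 2) (vec x 3) (vec x 0),
          hT.rot' (vec x 3) (vec x 3) (vec x 0)] at h0
        rw [hT.rot' (vec x 2) (vec x 2) (vec x 1), hT.rot' (vec x 2) (vec x 3) (vec x 1),
          hT.rot' (vec x 3) (vec x 3) (vec x 1)] at h1
        linear_combination -he + h0 + h1 - c1 0 * p1 - c1 1 * p2 - c1 2 * p3 - c1 3 * p4
      obtain ⟨he0, he1⟩ := hz hz4
      have hFR : (vec x 2, vec x 3) ∈ FR T := by
        refine ⟨?_, u1, u2, u3, u4⟩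
        rw [LinearIndependent.pair_iff]
        intro s t hst
        have g1 := congrFun hst i
        have g2 := congrFun hst j
        simp only [Pi.add_apply, Pi.smul_apply, smul_eq_mul, s1, s2, s3, s4, Pi.zero_apply] at g1 g2
        exact ⟨by linear_combination g1, by linear_combination g2⟩
      have z2 := no_relation hT hsm hFR (c0 := c1 0 / 3) (c1 := c1 1) (c2 := c1 2) (c3 := c1 3 / 3)
        (fun u => by
          have := G0 u
          rw [he0] at this
          field_simp
          linear_combination this)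
        (fun u => by
          have := G1 u
          rw [he1] at this
          field_simp
          linear_combination this)
      refine ⟨fun n => ?_, hz4⟩
      have h3 : (3 : k) ≠ 0 := by norm_num
      fin_cases n
      · exact (div_eq_zero_iff.1 z2.1).resolve_right h3
      · exact z2.2.1
      · exact z2.2.2.1
      · exact (div_eq_zero_iff.1 z2.2.2.2).resolve_right h3
    have n0 := fun w n => congrFun (pd_self (k := k) 0 w x) n
    have n1 := fun w n => congrFun (pd_self (k := k) 1 w x) n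
    have n2 := fun w n => congrFun (pd_ne (k := k) (a := 0) (b := 1) (by decide) w x) n
    have n3 := fun w n => congrFun (pd_ne (k := k) (a := 1) (b := 0) (by decide) w x) n
    simp only [Xv, Pi.zero_apply] at n0 n1 n2 n3
    cases b with
    | true =>
      simp only [cond_true] at hr hD key'
      refine main c4 0 (by rw [hr]; ring) (fun w => ?_) (fun w => ?_) (fun h => ⟨h, rfl⟩)
      · have h := key' (ix 0 w)
        rw [eqM_pd0 hT, eqL_pd_ne (by decide) (by decide), eqS_pd_ne (by decide) (by decide), hD, n0] at h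
        linear_combination h
      · have h := key' (ix 1 w)
        rw [eqM_pd1 hT, eqL_pd_ne (by decide) (by decide), eqS_pd_ne (by decide) (by decide), hD, n3] at h
        linear_combination h
    | false =>
      simp only [cond_false] at hr hD key'
      refine main 0 c4 (by rw [hr]; ring) (fun w => ?_) (fun w => ?_) (fun h => ⟨rfl, h⟩)
      · have h := key' (ix 0 w)
        rw [eqM_pd0 hT, eqL_pd_ne (by decide) (by decide), eqS_pd_ne (by decide) (by decide), hD, n2] at h
        linear_combination h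
      · have h := key' (ix 1 w)
        rw [eqM_pd1 hT, eqL_pd_ne (by decide) (by decide), eqS_pd_ne (by decide) (by decide), hD, n1] at h
        linear_combination h
  have key'' : ∀ l : Fin (4 * 5), (∑ n, c2 n * eval x (pderiv l (eqL T 2 3 n))) +
      (∑ n, c3 n * eval x (pderiv l (eqS 2 3 i j n))) = 0 := by
    intro l
    have h := key' l
    rw [z4, Finset.sum_eq_zero (fun n _ => by rw [z1 n, zero_mul])] at h
    linear_combination h
  obtain ⟨z2, z3⟩ := rel_line hT hsm s1 s2 s3 s4 u1 u2 u3 u4 (c := c2) (e := c3)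
    (fun u => by
      have := ext_single ((3 * c2 0) • T (vec x 2) (vec x 2) + (2 * c2 1) • T (vec x 2) (vec x 3) +
        c2 2 • T (vec x 3) (vec x 3) + (c3 0 • LinearMap.proj i + c3 1 • LinearMap.proj j)) (fun w => by
        have h := key'' (ix 2 w)
        rw [eqL_pd hT (by decide), eqS_pd (by decide)] at h
        simpa using h) u
      simpa using this)
    (fun u => by
      have := ext_single (c2 1 • T (vec x 2) (vec x 2) + (2 * c2 2) • T (vec x 2) (vec x 3) +
        (3 * c2 3) • T (vec x 3) (vec x 3) + (c3 2 • LinearMap.proj i + c3 3 • LinearMap.proj j)) (fun w => by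
        have h := key'' (ix 3 w)
        rw [eqL_pd' hT (by decide), eqS_pd' (by decide)] at h
        simpa using h) u
      simpa using this)
  rintro (n | n | n | n)
  · have := z1 n; rw [hc1] at this; exact this
  · have := z2 n; rw [hc2] at this; exact this
  · have := z3 n; rw [hc3] at this; exact this
  · rw [← hc4]; exact z4

end Groth.Agent.Fano.K51.DegDim7
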