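import Groth.Agent.Fano.K51.DegFrame
import Groth.Agent.Fano.K713.BinFactor

/-!
# Degenerate rational quartics: division by coprime cubics

* `exists_quad`: if `α³A + α²βB + αβ²C + β³D = 0` for binary cubics with `α, β` without common zero then
  `A = r₃β`, `B = r₁β - r₃α`, `C = r₀β - r₁α`, `D = -r₀α` with constants.
-/

set_option autoImplicit false
universe u

namespace Groth.Agent.Fano.K51.DegDiv

open MvPolynomial Groth.Agent.Fano.K51.DegFrame

variable {k : Type u} [Field k]

/-- The binary cubic as a polynomial. -/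
noncomputable def cubP (u : Fin 4 → k) : MvPolynomial (Fin 2) k :=
  C (u 0) * X 0 ^ 3 + C (u 1) * (X 0 ^ 2 * X 1) + C (u 2) * (X 0 * X 1 ^ 2) + C (u 3) * X 1 ^ 3

theorem eval_cubP (u : Fin 4 → k) (x : Fin 2 → k) : eval x (cubP u) = cub u (x 0) (x 1) := by
  simp [cubP, cub]

theorem isHomogeneous_cubP (u : Fin 4 → k) : (cubP u).IsHomogeneous 3 := by
  have hX0 := isHomogeneous_X k (0 : Fin 2)
  have hX1 := isHomogeneous_X k (1 : Fin 2)
  have h0 := (isHomogeneous_C (Fin 2) (u 0)).mul (hX0.pow 3)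
  have h1 := (isHomogeneous_C (Fin 2) (u 1)).mul ((hX0.pow 2).mul hX1)
  have h2 := (isHomogeneous_C (Fin 2) (u 2)).mul (hX0.mul (hX1.pow 2))
  have h3 := (isHomogeneous_C (Fin 2) (u 3)).mul (hX1.pow 3)
  exact ((h0.add h1).add h2).add h3

theorem cubP_eq_of_cub [Infinite k] {u v : Fin 4 → k} (h : ∀ s t, cub u s t = cub v s t) : cubP u = cubP v := by
  apply MvPolynomial.funext
  intro x
  rw [eval_cubP, eval_cubP, h]

theorem eq_of_cub [CharZero k] {u v : Fin 4 → k} (h : ∀ s t, cub u s t = cub v s t) : u = v := by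
  have h0 := h 1 0
  have h1 := h 0 1
  have h2 := h 1 1
  have h3 := h 1 (-1)
  have h4 := h 1 2
  simp [cub] at h0 h1 h2 h3 h4
  have e1 : u 1 = v 1 := by
    have h6 : (6 : k) ≠ 0 := by norm_num
    apply mul_left_cancel₀ h6
    linear_combination (-3 : k) * h0 + 6 * h2 - 2 * h3 - h4
  have e2 : u 2 = v 2 := by
    have h2' : (2 : k) ≠ 0 := two_ne_zero
    apply mul_left_cancel₀ h2'
    linear_combination h2 + h3 - 2 * h0
  ext i
  fin_cases i
  exacts [h0, e1, e2, h1]

theorem cubP_add (u v : Fin 4 → k) : cubP (u + v) = cubP u + cubP v := by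
  simp only [cubP, Pi.add_apply, map_add]; ring

theorem cubP_smul (a : k) (u : Fin 4 → k) : cubP (a • u) = C a * cubP u := by
  simp only [cubP, Pi.smul_apply, smul_eq_mul, map_mul]; ring

/-- No common zero. -/
def NoZ (al be : Fin 4 → k) : Prop :=
  ∀ s t : k, (s ≠ 0 ∨ t ≠ 0) → cub al s t = 0 → cub be s t = 0 → False

theorem ne_or_of_ne {x : Fin 2 → k} (hx : x ≠ 0) : x 0 ≠ 0 ∨ x 1 ≠ 0 := by
  by_contra hc
  push Not at hc
  exact hx (by ext i; fin_cases i; exacts [hc.1, hc.2])

theorem NoZ.symm {al be : Fin 4 → k} (h : NoZ al be) : NoZ be al := fun s t hst h1 h2 => h s t hst h2 h1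

section

variable [IsAlgClosed k] [CharZero k]

theorem cubP_ne_zero_left {al be : Fin 4 → k} (h : NoZ al be) : cubP al ≠ 0 := by
  intro h0
  obtain ⟨x, hx, hx'⟩ := K713.Binary.exists_zero (isHomogeneous_cubP be) (by norm_num)
  refine h (x 0) (x 1) (ne_or_of_ne hx) ?_ ?_
  · rw [← eval_cubP, h0, map_zero]
  · rw [← eval_cubP, hx']

theorem isRelPrime {al be : Fin 4 → k} (h : NoZ al be) : IsRelPrime (cubP al) (cubP be) := by
  intro d hd1 hd2
  have hne := cubP_ne_zero_left h
  obtain ⟨e, he⟩ := hd1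
  have h1 := isHomogeneous_cubP al
  rw [he] at h1 hne
  obtain ⟨a, b, hab, ha, hb⟩ := K713.HomFactor.exists_isHomogeneous h1 hne
  by_cases ha0 : a = 0
  · subst ha0
    have h2 := totalDegree_eq_zero_iff_eq_C.1 (ha.totalDegree (left_ne_zero_of_mul hne))
    rw [h2]
    refine IsUnit.map C (isUnit_iff_ne_zero.2 ?_)
    intro h3
    rw [h3, map_zero] at h2
    exact (left_ne_zero_of_mul hne) h2
  · exfalso
    obtain ⟨x, hx, hx'⟩ := K713.Binary.exists_zero ha (Nat.pos_of_ne_zero ha0)
    refine h (x 0) (x 1) (ne_or_of_ne hx) ?_ ?_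
    · rw [← eval_cubP, he, map_mul, hx', zero_mul]
    · obtain ⟨e', he'⟩ := hd2
      rw [← eval_cubP, he', map_mul, hx', zero_mul]

omit [IsAlgClosed k] in
theorem exists_smul_of_dvd {u v : Fin 4 → k} (hu : cubP u ≠ 0) (h : cubP u ∣ cubP v) : ∃ r : k, v = r • u := by
  obtain ⟨e, he⟩ := h
  have h2 : ∃ r : k, e = C r := by
    by_cases he0 : e = 0
    · exact ⟨0, by rw [he0, map_zero]⟩
    · have hne : cubP u * e ≠ 0 := mul_ne_zero hu he0
      have h1 := isHomogeneous_cubP v
      rw [he] at h1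
      obtain ⟨a, b, hab, ha, hb⟩ := K713.HomFactor.exists_isHomogeneous h1 hne
      have h3 : a = 3 := ha.inj_right (isHomogeneous_cubP u) hu
      have h4 : b = 0 := by omega
      subst h4
      exact ⟨_, totalDegree_eq_zero_iff_eq_C.1 (hb.totalDegree he0)⟩
  obtain ⟨r, rfl⟩ := h2
  refine ⟨r, eq_of_cub fun s t => ?_⟩
  have h3 := congrArg (eval ![s, t]) he
  rw [map_mul, eval_C, eval_cubP, eval_cubP] at h3
  simp only [Matrix.cons_val_zero, Matrix.cons_val_one] at h3
  rw [h3, cub_smul, mul_comm]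

theorem exists_quad {al be A B D E : Fin 4 → k} (hz : NoZ al be)
    (h : ∀ s t, cub al s t ^ 3 * cub A s t + cub al s t ^ 2 * cub be s t * cub B s t +
      cub al s t * cub be s t ^ 2 * cub D s t + cub be s t ^ 3 * cub E s t = 0) :
    ∃ r3 r1 r0 : k, A = r3 • be ∧ B = r1 • be - r3 • al ∧ D = r0 • be - r1 • al ∧ E = -(r0 • al) := by
  have hinf : Infinite k := IsAlgClosed.instInfinite
  have ha := cubP_ne_zero_left hz
  have hb := cubP_ne_zero_left hz.symm
  have hab := isRelPrime hz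
  have hba := isRelPrime hz.symm
  have hP : cubP al ^ 3 * cubP A + cubP al ^ 2 * cubP be * cubP B + cubP al * cubP be ^ 2 * cubP D +
      cubP be ^ 3 * cubP E = 0 := by
    apply MvPolynomial.funext
    intro x
    simp only [map_add, map_mul, map_pow, eval_cubP, map_zero]
    exact h _ _
  obtain ⟨r3, hr3⟩ : ∃ r : k, A = r • be := by
    refine exists_smul_of_dvd hb ?_
    refine (hba.pow_right (n := 3)).dvd_of_dvd_mul_left ⟨-(cubP al ^ 2 * cubP B + cubP al * cubP be * cubP D +
      cubP be ^ 2 * cubP E), by linear_combination hP⟩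
  obtain ⟨r0, hr0⟩ : ∃ r : k, E = r • al := by
    refine exists_smul_of_dvd ha ?_
    refine (hab.pow_right (n := 3)).dvd_of_dvd_mul_left ⟨-(cubP al ^ 2 * cubP A + cubP al * cubP be * cubP B +
      cubP be ^ 2 * cubP D), by linear_combination hP⟩
  have hP2 : cubP al * (C r3 * cubP al + cubP B) + cubP be * (cubP D + C r0 * cubP be) = 0 := by
    have h1 : (cubP al * cubP be) * (cubP al * (C r3 * cubP al + cubP B) + cubP be * (cubP D + C r0 * cubP be)) =
        0 := by
      rw [hr3, hr0, cubP_smul, cubP_smul] at hP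
      linear_combination hP
    exact (mul_eq_zero.1 h1).resolve_left (mul_ne_zero ha hb)
  obtain ⟨r1, hr1⟩ : ∃ r : k, r3 • al + B = r • be := by
    refine exists_smul_of_dvd hb ?_
    rw [cubP_add, cubP_smul]
    refine hba.dvd_of_dvd_mul_left ⟨-(cubP D + C r0 * cubP be), by linear_combination hP2⟩
  refine ⟨r3, r1, -r0, hr3, ?_, ?_, ?_⟩
  · rw [← hr1]; abel
  · have h1 : C r3 * cubP al + cubP B = C r1 * cubP be := by
      rw [← cubP_smul, ← cubP_smul, ← cubP_add, hr1]
    rw [h1] at hP2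
    have h2 : cubP be * (C r1 * cubP al + cubP D + C r0 * cubP be) = 0 := by linear_combination hP2
    have h3 := (mul_eq_zero.1 h2).resolve_left hb
    refine eq_of_cub fun s t => ?_
    have h4 := congrArg (eval ![s, t]) h3
    simp only [map_add, map_mul, eval_C, eval_cubP, map_zero, Matrix.cons_val_zero, Matrix.cons_val_one] at h4
    rw [sub_eq_add_neg, ← neg_smul, cub_add, cub_smul, cub_smul]
    linear_combination h4
  · rw [hr0, neg_smul, neg_neg]

end

end Groth.Agent.Fano.K51.DegDiv
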