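import Groth.Agent.Fano.K51.DegTB
import Groth.Agent.Fano.K51.DegDim

/-!
# Degenerate rational quartics: the equations of the two parameter spaces

Variables `X (ix a j)`, `a : Fin 4`, `j : Fin 5`: the coordinates of `P, Q, U, V`.
* `hI T i j i' j'`: first normal form, `(P, Q)` has identity minor `(i, j)`, the minor `(i', j')` of `(U, V)` is `1`.
* `hII T i j r b`: second normal form, `(U, V)` has identity minor `(i, j)`, the coordinate `r` of `P` or `Q` is `1`.
* `dim_I`, `dim_II`: the rings have dimension at most `7`.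
-/

set_option autoImplicit false
universe u

namespace Groth.Agent.Fano.K51.DegEq

open Module MvPolynomial K656.Trilin K714.Frames Groth.Agent.Fano.K51.DegTB Groth.Agent.Fano.K51.DegDim

variable {k : Type u} [Field k]

/-- The index of the coordinate `j` of the vector `a`. -/
def ix (a : Fin 4) (j : Fin 5) : Fin (4 * 5) := finProdFinEquiv (a, j)

theorem ix_inj {a b : Fin 4} {i j : Fin 5} (h : ix a i = ix b j) : a = b ∧ i = j := by
  have := finProdFinEquiv.injective h
  exact ⟨congrArg Prod.fst this, congrArg Prod.snd this⟩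

/-- The vectors of variables. -/
noncomputable def Xv (a : Fin 4) : Fin 5 → MvPolynomial (Fin (4 * 5)) k := fun j => X (ix a j)

/-- The vectors of a point. -/
def vec (x : Fin (4 * 5) → k) (a : Fin 4) : Fin 5 → k := fun j => x (ix a j)

theorem eval_Xv (x : Fin (4 * 5) → k) (a : Fin 4) : (fun j => eval x (Xv a j)) = vec x a := by
  funext j; simp [Xv, vec]

theorem pd_self (a : Fin 4) (i : Fin 5) (x : Fin (4 * 5) → k) :
    (fun j => eval x (pderiv (ix a i) (Xv a j : MvPolynomial (Fin (4 * 5)) k))) = Pi.single i 1 := by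
  funext j
  by_cases h : j = i
  · subst h; simp [Xv]
  · have h1 : ix a j ≠ ix a i := fun h2 => h (ix_inj h2).2
    rw [Xv, pderiv_X_of_ne h1, map_zero, Pi.single_eq_of_ne h]

theorem pd_ne {a b : Fin 4} (hab : b ≠ a) (i : Fin 5) (x : Fin (4 * 5) → k) :
    (fun j => eval x (pderiv (ix a i) (Xv b j : MvPolynomial (Fin (4 * 5)) k))) = 0 := by
  funext j
  have h1 : ix b j ≠ ix a i := fun h2 => hab (ix_inj h2).1
  rw [Xv, pderiv_X_of_ne h1, map_zero, Pi.zero_apply]

theorem ext_single (φ : (Fin 5 → k) →ₗ[k] k) (hφ : ∀ j, φ (Pi.single j 1) = 0) (u : Fin 5 → k) : φ u = 0 := by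
  have : φ = 0 := LinearMap.pi_ext' fun j => LinearMap.ext_ring (by simpa using hφ j)
  rw [this]; rfl

variable (T : (Fin 5 → k) →ₗ[k] (Fin 5 → k) →ₗ[k] (Fin 5 → k) →ₗ[k] k)

/-- The four equations of a line with frame `(X a, X b)`. -/
noncomputable def eqL (a b : Fin 4) : Fin 4 → MvPolynomial (Fin (4 * 5)) k :=
  ![pT T (Xv a) (Xv a) (Xv a), pT T (Xv a) (Xv a) (Xv b), pT T (Xv a) (Xv b) (Xv b), pT T (Xv b) (Xv b) (Xv b)]

/-- The equations for a second vector in the second normal form. -/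
noncomputable def eqM : Fin 4 → MvPolynomial (Fin (4 * 5)) k :=
  ![pT T (Xv 0) (Xv 2) (Xv 2), 2 * pT T (Xv 0) (Xv 2) (Xv 3) + pT T (Xv 1) (Xv 2) (Xv 2),
    pT T (Xv 0) (Xv 3) (Xv 3) + 2 * pT T (Xv 1) (Xv 2) (Xv 3), pT T (Xv 1) (Xv 3) (Xv 3)]

/-- Identity minor. -/
noncomputable def eqS (a b : Fin 4) (i j : Fin 5) : Fin 4 → MvPolynomial (Fin (4 * 5)) k :=
  ![X (ix a i) - 1, X (ix a j), X (ix b i), X (ix b j) - 1]

/-- The equations of the first chart. -/
noncomputable def hI (i j i' j' : Fin 5) : Fin 4 ⊕ Fin 4 ⊕ Fin 4 ⊕ Unit → MvPolynomial (Fin (4 * 5)) k :=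
  Sum.elim (eqL T 0 1) (Sum.elim (eqL T 2 3) (Sum.elim (eqS 0 1 i j)
    (fun _ => X (ix 2 i') * X (ix 3 j') - X (ix 2 j') * X (ix 3 i') - 1)))

/-- The equations of the second chart. -/
noncomputable def hII (i j r : Fin 5) (b : Bool) : Fin 4 ⊕ Fin 4 ⊕ Fin 4 ⊕ Unit → MvPolynomial (Fin (4 * 5)) k :=
  Sum.elim (eqM T) (Sum.elim (eqL T 2 3) (Sum.elim (eqS 2 3 i j)
    (fun _ => X (ix (cond b 0 1) r) - 1)))

variable {T}

theorem rel_of {ι : Type} [Fintype ι] {h : ι → MvPolynomial (Fin (4 * 5)) k} {x : Fin (4 * 5) → k} {c : ι → k}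
    (hc : ∑ i, c i • (fun l : Fin (4 * 5) => eval x (pderiv l (h i))) = 0) (l : Fin (4 * 5)) :
    ∑ i, c i * eval x (pderiv l (h i)) = 0 := by
  have := congrFun hc l
  simpa using this

/-- The relation obtained from the line with frame `(p, q)` in the direction of the vector `a`. -/
theorem eqL_pd (hT : IsSym3 T) {a b : Fin 4} (hab : a ≠ b) (x : Fin (4 * 5) → k) (c : Fin 4 → k) (j : Fin 5) :
    ∑ i, c i * eval x (pderiv (ix a j) (eqL T a b i)) =
      3 * c 0 * T (vec x a) (vec x a) (Pi.single j 1) + 2 * c 1 * T (vec x a) (vec x b) (Pi.single j 1) +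
      c 2 * T (vec x b) (vec x b) (Pi.single j 1) := by
  have s1 : ∀ u v w, T u v w = T v w u := hT.rot
  have s2 : ∀ u v w, T u v w = T u w v := hT.s23
  simp only [Fin.sum_univ_four, eqL, Matrix.cons_val, pderiv_pT, map_add, eval_pT, pd_self, pd_ne hab.symm,
    eval_Xv, map_zero, LinearMap.zero_apply, add_zero, zero_add]
  rw [s1 (Pi.single j 1) (vec x a) (vec x a), s2 (vec x a) (Pi.single j 1) (vec x a),
    s1 (Pi.single j 1) (vec x a) (vec x b), s2 (vec x a) (Pi.single j 1) (vec x b),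
    s1 (Pi.single j 1) (vec x b) (vec x b)]
  ring

theorem eqL_pd' (hT : IsSym3 T) {a b : Fin 4} (hab : a ≠ b) (x : Fin (4 * 5) → k) (c : Fin 4 → k) (j : Fin 5) :
    ∑ i, c i * eval x (pderiv (ix b j) (eqL T a b i)) =
      c 1 * T (vec x a) (vec x a) (Pi.single j 1) + 2 * c 2 * T (vec x a) (vec x b) (Pi.single j 1) +
      3 * c 3 * T (vec x b) (vec x b) (Pi.single j 1) := by
  have s1 : ∀ u v w, T u v w = T v w u := hT.rot
  have s2 : ∀ u v w, T u v w = T u w v := hT.s23
  simp only [Fin.sum_univ_four, eqL, Matrix.cons_val, pderiv_pT, map_add, eval_pT, pd_self, pd_ne hab,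
    eval_Xv, map_zero, LinearMap.zero_apply, add_zero, zero_add]
  rw [s1 (Pi.single j 1) (vec x b) (vec x b), s2 (vec x b) (Pi.single j 1) (vec x b),
    s2 (vec x a) (Pi.single j 1) (vec x b)]
  ring

/-- The line does not involve the other vectors. -/
theorem eqL_pd_ne {a b d : Fin 4} (had : a ≠ d) (hbd : b ≠ d) (x : Fin (4 * 5) → k) (c : Fin 4 → k) (j : Fin 5) :
    ∑ i, c i * eval x (pderiv (ix d j) (eqL T a b i)) = 0 := by
  simp only [Fin.sum_univ_four, eqL, Matrix.cons_val, pderiv_pT, map_add, eval_pT, pd_ne had, pd_ne hbd,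
    eval_Xv, map_zero, LinearMap.zero_apply, add_zero, zero_add, mul_zero]

theorem eqS_pd {a b : Fin 4} (hab : a ≠ b) (i j : Fin 5) (x : Fin (4 * 5) → k) (c : Fin 4 → k) (w : Fin 5) :
    ∑ n, c n * eval x (pderiv (ix a w) (eqS a b i j n : MvPolynomial (Fin (4 * 5)) k)) =
      c 0 * (Pi.single w 1 : Fin 5 → k) i + c 1 * (Pi.single w 1 : Fin 5 → k) j := by
  have h1 := fun n => congrFun (pd_self a w x) n
  have h2 := fun n => congrFun (pd_ne hab.symm w x) n
  simp only [Xv] at h1 h2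
  simp only [Fin.sum_univ_four, eqS, Matrix.cons_val, map_sub, h1, h2, Derivation.map_one_eq_zero,
    sub_zero, Pi.zero_apply, mul_zero, add_zero]

theorem eqS_pd' {a b : Fin 4} (hab : a ≠ b) (i j : Fin 5) (x : Fin (4 * 5) → k) (c : Fin 4 → k) (w : Fin 5) :
    ∑ n, c n * eval x (pderiv (ix b w) (eqS a b i j n : MvPolynomial (Fin (4 * 5)) k)) =
      c 2 * (Pi.single w 1 : Fin 5 → k) i + c 3 * (Pi.single w 1 : Fin 5 → k) j := by
  have h1 := fun n => congrFun (pd_self b w x) n
  have h2 := fun n => congrFun (pd_ne hab w x) n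
  simp only [Xv] at h1 h2
  simp only [Fin.sum_univ_four, eqS, Matrix.cons_val, map_sub, h1, h2, Derivation.map_one_eq_zero,
    sub_zero, Pi.zero_apply, mul_zero, add_zero, zero_add]

theorem eqS_pd_ne {a b d : Fin 4} (had : a ≠ d) (hbd : b ≠ d) (i j : Fin 5) (x : Fin (4 * 5) → k) (c : Fin 4 → k)
    (w : Fin 5) : ∑ n, c n * eval x (pderiv (ix d w) (eqS a b i j n : MvPolynomial (Fin (4 * 5)) k)) = 0 := by
  have h1 := fun n => congrFun (pd_ne had w x) n
  have h2 := fun n => congrFun (pd_ne hbd w x) n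
  simp only [Xv] at h1 h2
  simp only [Fin.sum_univ_four, eqS, Matrix.cons_val, map_sub, h1, h2, Derivation.map_one_eq_zero,
    sub_zero, Pi.zero_apply, mul_zero, add_zero]

/-- Lines with identity minor: the four equations and the four normalisations are independent. -/
theorem rel_line [IsAlgClosed k] [CharZero k] (hT : IsSym3 T) (hsm : K714.Surf.SmoothOn T ⊤) {p q : Fin 5 → k}
    {i j : Fin 5} (h1 : p i = 1) (h2 : p j = 0) (h3 : q i = 0) (h4 : q j = 1)
    (e1 : T p p p = 0) (e2 : T p p q = 0) (e3 : T p q q = 0) (e4 : T q q q = 0)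
    {c e : Fin 4 → k}
    (r1 : ∀ u : Fin 5 → k, 3 * c 0 * T p p u + 2 * c 1 * T p q u + c 2 * T q q u + (e 0 * u i + e 1 * u j) = 0)
    (r2 : ∀ u : Fin 5 → k, c 1 * T p p u + 2 * c 2 * T p q u + 3 * c 3 * T q q u + (e 2 * u i + e 3 * u j) = 0) :
    (∀ n, c n = 0) ∧ ∀ n, e n = 0 := by
  have a1 := r1 p
  have a2 := r1 q
  have a3 := r2 p
  have a4 := r2 q
  rw [e1, hT.s23 p q p, e2, hT.rot' q q p, e3, h1, h2] at a1 a3
  rw [e2, e3, e4, h3, h4] at a2 a4
  have b0 : e 0 = 0 := by linear_combination a1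
  have b1 : e 1 = 0 := by linear_combination a2
  have b2 : e 2 = 0 := by linear_combination a3
  have b3 : e 3 = 0 := by linear_combination a4
  have hFR : (p, q) ∈ FR T := by
    refine ⟨?_, e1, e2, e3, e4⟩
    rw [LinearIndependent.pair_iff]
    intro s t hst
    have g1 := congrFun hst i
    have g2 := congrFun hst j
    simp only [Pi.add_apply, Pi.smul_apply, smul_eq_mul, h1, h2, h3, h4, Pi.zero_apply] at g1 g2
    exact ⟨by linear_combination g1, by linear_combination g2⟩
  have := no_relation hT hsm hFR (c0 := c 0) (c1 := c 1) (c2 := c 2) (c3 := c 3)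
    (fun u => by have := r1 u; rw [b0, b1] at this; linear_combination this)
    (fun u => by have := r2 u; rw [b2, b3] at this; linear_combination this)
  refine ⟨fun n => ?_, fun n => ?_⟩
  · fin_cases n
    exacts [this.1, this.2.1, this.2.2.1, this.2.2.2]
  · fin_cases n
    exacts [b0, b1, b2, b3]

end Groth.Agent.Fano.K51.DegEq
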