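import Groth.Agent.Fano.K51.DegDiv
import Groth.Agent.Fano.K714.TypeConst2

/-!
# Degenerate rational quartics: normal form

* `no_quadric`: a smooth cubic threefold contains no quadric surface `P¹ × P¹`.
* `exists_normal`: the frame of a degenerate smooth rational quartic can be chosen such that either
  `T(m,m,m) = 0, T(m,m,l) = β, T(m,l,l) = -α, T(l,l,l) = 0` or
  `T(m,m,m) = β, 3T(m,m,l) = -α, T(m,l,l) = 0, T(l,l,l) = 0`, where `m = sP + tQ`, `l = sU + tV`.
-/

set_option autoImplicit false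
universe u

namespace Groth.Agent.Fano.K51.DegNorm

open Module K656.Trilin K714.Surf Groth.Agent.Fano.K51.DegFrame Groth.Agent.Fano.K51.DegDiv

variable {k : Type u} [Field k] {T : (Fin 5 → k) →ₗ[k] (Fin 5 → k) →ₗ[k] (Fin 5 → k) →ₗ[k] k}

/-- The coefficients of `T(s a + t a', s b + t b', s c + t c')`. -/
def tv (T : (Fin 5 → k) →ₗ[k] (Fin 5 → k) →ₗ[k] (Fin 5 → k) →ₗ[k] k) (a a' b b' c c' : Fin 5 → k) : Fin 4 → k :=
  ![T a b c, T a b c' + T a b' c + T a' b c, T a b' c' + T a' b c' + T a' b' c, T a' b' c']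

theorem cub_tv (a a' b b' c c' : Fin 5 → k) (s t : k) :
    cub (tv T a a' b b' c c') s t = T (s • a + t • a') (s • b + t • b') (s • c + t • c') := by
  simp only [cub, tv, map_add, map_smul, LinearMap.add_apply, LinearMap.smul_apply, smul_eq_mul, Matrix.cons_val]
  ring

theorem eval_span (hT : IsSym3 T) (P Q U V : Fin 5 → k) (a b c d : k) :
    T (a • P + b • Q + c • U + d • V) (a • P + b • Q + c • U + d • V) (a • P + b • Q + c • U + d • V) =
      a ^ 3 * T P P P + 3 * a ^ 2 * b * T P P Q + 3 * a * b ^ 2 * T P Q Q + b ^ 3 * T Q Q Q +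
      3 * a ^ 2 * c * T P P U + 3 * a ^ 2 * d * T P P V + 6 * a * b * c * T P Q U + 6 * a * b * d * T P Q V +
      3 * b ^ 2 * c * T Q Q U + 3 * b ^ 2 * d * T Q Q V +
      3 * a * c ^ 2 * T P U U + 6 * a * c * d * T P U V + 3 * a * d ^ 2 * T P V V +
      3 * b * c ^ 2 * T Q U U + 6 * b * c * d * T Q U V + 3 * b * d ^ 2 * T Q V V +
      c ^ 3 * T U U U + 3 * c ^ 2 * d * T U U V + 3 * c * d ^ 2 * T U V V + d ^ 3 * T V V V := by
  have h1 : a • P + b • Q + c • U + d • V = (a • P + b • Q) + (c • U + d • V) := by abel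
  rw [h1, hT.cube_add, hT.cube_smul_add_smul, hT.cube_smul_add_smul, hT.sq_smul_add_smul]
  have h2 : T (a • P + b • Q) (c • U + d • V) (c • U + d • V) =
      a * (c ^ 2 * T P U U + 2 * c * d * T P U V + d ^ 2 * T P V V) +
      b * (c ^ 2 * T Q U U + 2 * c * d * T Q U V + d ^ 2 * T Q V V) := by
    simp only [map_add, map_smul, LinearMap.add_apply, LinearMap.smul_apply, smul_eq_mul]
    rw [hT.s23 P V U, hT.s23 Q V U]
    ring
  rw [h2]
  simp only [map_add, map_smul, smul_eq_mul]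
  ring

/-- A smooth cubic threefold contains no `P¹ × P¹`. -/
theorem no_quadric [IsAlgClosed k] [CharZero k] (hT : IsSym3 T) (hsm : SmoothOn T ⊤) {P Q U V : Fin 5 → k}
    (hli : LinearIndependent k ![P, Q, U, V]) (h1 : tv T P Q P Q P Q = 0) (h2 : tv T P Q P Q U V = 0)
    (h3 : tv T P Q U V U V = 0) (h4 : tv T U V U V U V = 0) : False := by
  have c3 : (3 : k) ≠ 0 := by norm_num
  have a0 := congrFun h1 0
  have a1 := congrFun h1 1
  have a2 := congrFun h1 2
  have a3 := congrFun h1 3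
  have b0 := congrFun h2 0
  have b1 := congrFun h2 1
  have b2 := congrFun h2 2
  have b3 := congrFun h2 3
  have d0 := congrFun h3 0
  have d1 := congrFun h3 1
  have d2 := congrFun h3 2
  have d3 := congrFun h3 3
  have e0 := congrFun h4 0
  have e1 := congrFun h4 1
  have e2 := congrFun h4 2
  have e3 := congrFun h4 3
  simp only [tv, Matrix.cons_val, Pi.zero_apply] at a0 a1 a2 a3 b0 b1 b2 b3 d0 d1 d2 d3 e0 e1 e2 e3
  have a1' : T P P Q = 0 := by
    have h : 3 * T P P Q = 0 := by linear_combination a1 - hT.s23 P Q P - hT.rot Q P P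
    exact (mul_eq_zero.1 h).resolve_left c3
  have a2' : T P Q Q = 0 := by
    have h : 3 * T P Q Q = 0 := by linear_combination a2 - hT.s12 Q P Q - hT.rot' Q Q P
    exact (mul_eq_zero.1 h).resolve_left c3
  have e1' : T U U V = 0 := by
    have h : 3 * T U U V = 0 := by linear_combination e1 - hT.s23 U V U - hT.rot V U U
    exact (mul_eq_zero.1 h).resolve_left c3
  have e2' : T U V V = 0 := by
    have h : 3 * T U V V = 0 := by linear_combination e2 - hT.s12 V U V - hT.rot' V V U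
    exact (mul_eq_zero.1 h).resolve_left c3
  have b1' : T P P V + 2 * T P Q U = 0 := by linear_combination b1 - hT.s12 Q P U
  have b2' : 2 * T P Q V + T Q Q U = 0 := by linear_combination b2 - hT.s12 Q P V
  have d1' : 2 * T P U V + T Q U U = 0 := by linear_combination d1 - hT.s23 P V U
  have d2' : T P V V + 2 * T Q U V = 0 := by linear_combination d2 - hT.s23 Q V U
  have key : ∀ a b c d : k,
      T (a • P + b • Q + c • U + d • V) (a • P + b • Q + c • U + d • V) (a • P + b • Q + c • U + d • V) =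
        3 * (a * d - b * c) * (T P P V * a + 2 * T P Q V * b + 2 * T P U V * c + T P V V * d) := by
    intro a b c d
    rw [eval_span hT]
    linear_combination a ^ 3 * a0 + 3 * a ^ 2 * b * a1' + 3 * a * b ^ 2 * a2' + b ^ 3 * a3 + 3 * a ^ 2 * c * b0 +
      3 * b ^ 2 * d * b3 + 3 * a * c ^ 2 * d0 + 3 * b * d ^ 2 * d3 + c ^ 3 * e0 + 3 * c ^ 2 * d * e1' +
      3 * c * d ^ 2 * e2' + d ^ 3 * e3 + 3 * a * b * c * b1' + 3 * b ^ 2 * c * b2' + 3 * b * c ^ 2 * d1' +
      3 * b * c * d * d2'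
  -- the plane
  let L : (Fin 4 → k) →ₗ[k] k := Fintype.linearCombination k ![T P P V, 2 * T P Q V, 2 * T P U V, T P V V]
  obtain ⟨L', hL', hLL⟩ : ∃ L' : (Fin 4 → k) →ₗ[k] k, L' ≠ 0 ∧ LinearMap.ker L' ≤ LinearMap.ker L := by
    by_cases h : L = 0
    · refine ⟨LinearMap.proj 0, fun h0 => ?_, ?_⟩
      · have := LinearMap.congr_fun h0 (Pi.single 0 1)
        simp at this
      · rw [h, LinearMap.ker_zero]; exact le_top
    · exact ⟨L, h, le_rfl⟩
  have hfr : finrank k (LinearMap.ker L') = 3 := by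
    have h := LinearMap.finrank_range_add_finrank_ker L'
    rw [LinearMap.range_eq_top.2 (LinearMap.surjective hL'), finrank_top, finrank_self, finrank_fin_fun] at h
    omega
  let φ : (Fin 4 → k) →ₗ[k] (Fin 5 → k) := Fintype.linearCombination k ![P, Q, U, V]
  have hφ : Function.Injective φ := linearIndependent_iff_injective_fintypeLinearCombination.1 hli
  refine K714.TypeConst.no_plane hT (by rw [finrank_fin_fun]) hsm (P := (LinearMap.ker L').map φ) ?_ ?_
  · rw [(Submodule.equivMapOfInjective φ hφ _).finrank_eq.symm, hfr]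
  · rintro _ ⟨x, hx, rfl⟩
    have hx' : L x = 0 := hLL hx
    have h : φ x = x 0 • P + x 1 • Q + x 2 • U + x 3 • V := by
      simp [φ, Fintype.linearCombination_apply, Fin.sum_univ_four]
    rw [h, key]
    have h5 : T P P V * x 0 + 2 * T P Q V * x 1 + 2 * T P U V * x 2 + T P V V * x 3 = 0 := by
      simp [L, Fintype.linearCombination_apply, Fin.sum_univ_four] at hx'
      linear_combination hx'
    rw [h5, mul_zero]

/-- The normal forms of a nonzero binary quadratic form. -/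
theorem exists_quad_normal [IsAlgClosed k] [CharZero k] {r3 r1 r0 : k} (h : ¬ (r3 = 0 ∧ r1 = 0 ∧ r0 = 0)) :
    ∃ n00 n01 n10 n11 δ : k, n00 * n11 - n01 * n10 = δ ∧ δ ≠ 0 ∧
      ((δ * (r3 * n00 ^ 2 + r1 * n00 * n10 + r0 * n10 ^ 2) = 0 ∧
        δ * (2 * r3 * n00 * n01 + r1 * (n00 * n11 + n01 * n10) + 2 * r0 * n10 * n11) = 3 ∧
        δ * (r3 * n01 ^ 2 + r1 * n01 * n11 + r0 * n11 ^ 2) = 0) ∨
       (δ * (r3 * n00 ^ 2 + r1 * n00 * n10 + r0 * n10 ^ 2) = 1 ∧
        δ * (2 * r3 * n00 * n01 + r1 * (n00 * n11 + n01 * n10) + 2 * r0 * n10 * n11) = 0 ∧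
        δ * (r3 * n01 ^ 2 + r1 * n01 * n11 + r0 * n11 ^ 2) = 0)) := by
  obtain ⟨z0, z1, hz, hR⟩ := exists_quad_zero r3 r1 r0
  have hc2 : (2 : k) ≠ 0 := two_ne_zero
  by_cases hB : 2 * r3 * z0 + r1 * z1 = 0 ∧ r1 * z0 + 2 * r0 * z1 = 0
  · -- double zero
    obtain ⟨hB0, hB1⟩ := hB
    obtain ⟨w0, w1, hw⟩ : ∃ w0 w1 : k, r3 * w0 ^ 2 + r1 * w0 * w1 + r0 * w1 ^ 2 ≠ 0 := by
      by_contra hc
      push Not at hc
      apply h
      have g1 := hc 1 0
      have g2 := hc 0 1
      have g3 := hc 1 1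
      refine ⟨by linear_combination g1, ?_, by linear_combination g2⟩
      linear_combination g3 - g1 - g2
    have hδ : w0 * z1 - z0 * w1 ≠ 0 := by
      intro hd
      rcases hz with h0 | h0
      · have h1 : z0 ^ 2 * (r3 * w0 ^ 2 + r1 * w0 * w1 + r0 * w1 ^ 2) = 0 := by
          linear_combination w0 ^ 2 * hR - (r1 * w0 * z0 + r0 * (w0 * z1 + z0 * w1)) * hd
        exact hw ((mul_eq_zero.1 h1).resolve_left (pow_ne_zero _ h0))
      · have h1 : z1 ^ 2 * (r3 * w0 ^ 2 + r1 * w0 * w1 + r0 * w1 ^ 2) = 0 := by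
          linear_combination w1 ^ 2 * hR + (r1 * w1 * z1 + r3 * (w0 * z1 + z0 * w1)) * hd
        exact hw ((mul_eq_zero.1 h1).resolve_left (pow_ne_zero _ h0))
    obtain ⟨ν, hν⟩ := IsAlgClosed.exists_pow_nat_eq
      (((w0 * z1 - z0 * w1) * (r3 * w0 ^ 2 + r1 * w0 * w1 + r0 * w1 ^ 2))⁻¹) (n := 4) (by norm_num)
    have hne := mul_ne_zero hδ hw
    have hν0 : ν ≠ 0 := by
      rintro rfl
      rw [zero_pow (by norm_num)] at hν
      exact inv_ne_zero hne hν.symm
    have hν1 : ν ^ 4 * ((w0 * z1 - z0 * w1) * (r3 * w0 ^ 2 + r1 * w0 * w1 + r0 * w1 ^ 2)) = 1 := by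
      rw [hν, inv_mul_cancel₀ hne]
    refine ⟨ν * w0, ν * z0, ν * w1, ν * z1, ν ^ 2 * (w0 * z1 - z0 * w1), by ring,
      mul_ne_zero (pow_ne_zero _ hν0) hδ, Or.inr ⟨?_, ?_, ?_⟩⟩
    · linear_combination hν1
    · linear_combination ν ^ 4 * (w0 * z1 - z0 * w1) * (w0 * hB0 + w1 * hB1)
    · linear_combination ν ^ 4 * (w0 * z1 - z0 * w1) * hR
  · -- two zeros
    obtain ⟨y0, y1, hy⟩ : ∃ y0 y1 : k, (2 * r3 * z0 + r1 * z1) * y0 + (r1 * z0 + 2 * r0 * z1) * y1 ≠ 0 := by
      by_contra hc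
      push Not at hc
      apply hB
      refine ⟨?_, ?_⟩
      · have := hc 1 0; linear_combination this
      · have := hc 0 1; linear_combination this
    obtain ⟨τ, hτ⟩ : ∃ τ : k, τ * ((2 * r3 * z0 + r1 * z1) * y0 + (r1 * z0 + 2 * r0 * z1) * y1) =
        -(r3 * y0 ^ 2 + r1 * y0 * y1 + r0 * y1 ^ 2) := ⟨_, div_mul_cancel₀ _ hy⟩
    obtain ⟨w0, hw0⟩ : ∃ w0, w0 = y0 + τ * z0 := ⟨_, rfl⟩
    obtain ⟨w1, hw1⟩ : ∃ w1, w1 = y1 + τ * z1 := ⟨_, rfl⟩
    have hRw : r3 * w0 ^ 2 + r1 * w0 * w1 + r0 * w1 ^ 2 = 0 := by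
      rw [hw0, hw1]; linear_combination hτ + τ ^ 2 * hR
    have hBw : (2 * r3 * z0 + r1 * z1) * w0 + (r1 * z0 + 2 * r0 * z1) * w1 ≠ 0 := by
      intro h0
      apply hy
      rw [hw0, hw1] at h0
      linear_combination h0 - 2 * τ * hR
    have hδ : z0 * w1 - w0 * z1 ≠ 0 := by
      intro hd
      rcases hz with h0 | h0
      · have h1 : z0 * ((2 * r3 * z0 + r1 * z1) * w0 + (r1 * z0 + 2 * r0 * z1) * w1) = 0 := by
          linear_combination 2 * w0 * hR + (r1 * z0 + 2 * r0 * z1) * hd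
        exact hBw ((mul_eq_zero.1 h1).resolve_left h0)
      · have h1 : z1 * ((2 * r3 * z0 + r1 * z1) * w0 + (r1 * z0 + 2 * r0 * z1) * w1) = 0 := by
          linear_combination 2 * w1 * hR - (r1 * z1 + 2 * r3 * z0) * hd
        exact hBw ((mul_eq_zero.1 h1).resolve_left h0)
    have hne := mul_ne_zero hδ hBw
    obtain ⟨ν, hν⟩ := IsAlgClosed.exists_pow_nat_eq
      (3 * ((z0 * w1 - w0 * z1) * ((2 * r3 * z0 + r1 * z1) * w0 + (r1 * z0 + 2 * r0 * z1) * w1))⁻¹) (n := 4)
      (by norm_num)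
    have hν0 : ν ≠ 0 := by
      rintro rfl
      rw [zero_pow (by norm_num)] at hν
      exact (mul_ne_zero (by norm_num : (3 : k) ≠ 0) (inv_ne_zero hne)) hν.symm
    have hν1 : ν ^ 4 * ((z0 * w1 - w0 * z1) * ((2 * r3 * z0 + r1 * z1) * w0 + (r1 * z0 + 2 * r0 * z1) * w1)) =
        3 := by
      rw [hν, mul_assoc, inv_mul_cancel₀ hne, mul_one]
    refine ⟨ν * z0, ν * w0, ν * z1, ν * w1, ν ^ 2 * (z0 * w1 - w0 * z1), by ring,
      mul_ne_zero (pow_ne_zero _ hν0) hδ, Or.inl ⟨?_, ?_, ?_⟩⟩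
    · linear_combination ν ^ 4 * (z0 * w1 - w0 * z1) * hR
    · linear_combination hν1
    · linear_combination ν ^ 4 * (z0 * w1 - w0 * z1) * hRw

/-- The point of the quartic. -/
def gpt (al be : Fin 4 → k) (P Q U V : Fin 5 → k) (s t : k) : Fin 5 → k :=
  cub al s t • (s • P + t • Q) + cub be s t • (s • U + t • V)

/-- First normal form: two lines. -/
def TypeI (T : (Fin 5 → k) →ₗ[k] (Fin 5 → k) →ₗ[k] (Fin 5 → k) →ₗ[k] k) (al be : Fin 4 → k)
    (P Q U V : Fin 5 → k) : Prop :=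
  ∀ s t : k, T (s • P + t • Q) (s • P + t • Q) (s • P + t • Q) = 0 ∧
    T (s • P + t • Q) (s • P + t • Q) (s • U + t • V) = cub be s t ∧
    T (s • P + t • Q) (s • U + t • V) (s • U + t • V) = - cub al s t ∧
    T (s • U + t • V) (s • U + t • V) (s • U + t • V) = 0

/-- Second normal form: a double line. -/
def TypeII (T : (Fin 5 → k) →ₗ[k] (Fin 5 → k) →ₗ[k] (Fin 5 → k) →ₗ[k] k) (al be : Fin 4 → k)
    (P Q U V : Fin 5 → k) : Prop :=
  ∀ s t : k, T (s • P + t • Q) (s • P + t • Q) (s • P + t • Q) = cub be s t ∧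
    3 * T (s • P + t • Q) (s • P + t • Q) (s • U + t • V) = - cub al s t ∧
    T (s • P + t • Q) (s • U + t • V) (s • U + t • V) = 0 ∧
    T (s • U + t • V) (s • U + t • V) (s • U + t • V) = 0

/-- Normal form of the frame. -/
theorem exists_normal [IsAlgClosed k] [CharZero k] (hT : IsSym3 T) (hsm : SmoothOn T ⊤) {al be : Fin 4 → k}
    {P Q U V : Fin 5 → k} (hz : NoZ al be) (hli : LinearIndependent k ![P, Q, U, V])
    (h0 : ∀ s t, T (gpt al be P Q U V s t) (gpt al be P Q U V s t) (gpt al be P Q U V s t) = 0) :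
    ∃ (al' be' : Fin 4 → k) (P' Q' U' V' : Fin 5 → k), LinearIndependent k ![P', Q', U', V'] ∧
      (∀ s t, gpt al' be' P' Q' U' V' s t = gpt al be P Q U V s t) ∧
      (TypeI T al' be' P' Q' U' V' ∨ TypeII T al' be' P' Q' U' V') := by
  have c3 : (3 : k) ≠ 0 := by norm_num
  obtain ⟨r3, r1, r0, hA, hB, hD, hE⟩ := exists_quad (A := tv T P Q P Q P Q) (B := (3 : k) • tv T P Q P Q U V)
    (D := (3 : k) • tv T P Q U V U V) (E := tv T U V U V U V) hz (fun s t => by
      have h1 := h0 s t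
      rw [gpt, hT.cube_smul_add_smul] at h1
      rw [cub_smul, cub_smul, cub_tv, cub_tv, cub_tv, cub_tv]
      linear_combination h1)
  have gA : ∀ s t, T (s • P + t • Q) (s • P + t • Q) (s • P + t • Q) = r3 * cub be s t := fun s t => by
    rw [← cub_tv, hA, cub_smul]
  have gB : ∀ s t, 3 * T (s • P + t • Q) (s • P + t • Q) (s • U + t • V) =
      r1 * cub be s t - r3 * cub al s t := fun s t => by
    rw [← cub_tv, ← cub_smul, hB, sub_eq_add_neg, ← neg_smul, cub_add, cub_smul, cub_smul]; ring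
  have gD : ∀ s t, 3 * T (s • P + t • Q) (s • U + t • V) (s • U + t • V) =
      r0 * cub be s t - r1 * cub al s t := fun s t => by
    rw [← cub_tv, ← cub_smul, hD, sub_eq_add_neg, ← neg_smul, cub_add, cub_smul, cub_smul]; ring
  have gE : ∀ s t, T (s • U + t • V) (s • U + t • V) (s • U + t • V) = - (r0 * cub al s t) := fun s t => by
    rw [← cub_tv, hE, ← neg_smul, cub_smul]; ring
  have hr : ¬ (r3 = 0 ∧ r1 = 0 ∧ r0 = 0) := by
    rintro ⟨rfl, rfl, rfl⟩
    rw [zero_smul] at hA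
    rw [zero_smul, zero_smul, sub_zero] at hB hD
    rw [zero_smul, neg_zero] at hE
    exact no_quadric hT hsm hli hA ((smul_eq_zero.1 hB).resolve_left c3) ((smul_eq_zero.1 hD).resolve_left c3) hE
  obtain ⟨n00, n01, n10, n11, δ, hδ, hδ0, hN⟩ := exists_quad_normal hr
  -- the new frame
  obtain ⟨al', hal'⟩ : ∃ al' : Fin 4 → k, al' = δ⁻¹ • (n11 • al - n01 • be) := ⟨_, rfl⟩
  obtain ⟨be', hbe'⟩ : ∃ be' : Fin 4 → k, be' = δ⁻¹ • (n00 • be - n10 • al) := ⟨_, rfl⟩
  have cal' : ∀ s t, δ * cub al' s t = n11 * cub al s t - n01 * cub be s t := fun s t => by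
    rw [hal', cub_smul, sub_eq_add_neg, ← neg_smul, cub_add, cub_smul, cub_smul, ← mul_assoc, mul_inv_cancel₀ hδ0]
    ring
  have cbe' : ∀ s t, δ * cub be' s t = n00 * cub be s t - n10 * cub al s t := fun s t => by
    rw [hbe', cub_smul, sub_eq_add_neg, ← neg_smul, cub_add, cub_smul, cub_smul, ← mul_assoc, mul_inv_cancel₀ hδ0]
    ring
  have hm : ∀ s t : k, s • (n00 • P + n10 • U) + t • (n00 • Q + n10 • V) =
      n00 • (s • P + t • Q) + n10 • (s • U + t • V) := fun s t => by module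
  have hl : ∀ s t : k, s • (n01 • P + n11 • U) + t • (n01 • Q + n11 • V) =
      n01 • (s • P + t • Q) + n11 • (s • U + t • V) := fun s t => by module
  -- the four values
  have v1 : ∀ s t, T (n00 • (s • P + t • Q) + n10 • (s • U + t • V)) (n00 • (s • P + t • Q) + n10 • (s • U + t • V))
      (n00 • (s • P + t • Q) + n10 • (s • U + t • V)) =
      δ * (r3 * n00 ^ 2 + r1 * n00 * n10 + r0 * n10 ^ 2) * cub be' s t := fun s t => by
    rw [hT.cube_smul_add_smul]
    linear_combination n00 ^ 3 * gA s t + n00 ^ 2 * n10 * gB s t + n00 * n10 ^ 2 * gD s t + n10 ^ 3 * gE s t -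
      (r3 * n00 ^ 2 + r1 * n00 * n10 + r0 * n10 ^ 2) * cbe' s t
  have v2 : ∀ s t, 3 * T (n00 • (s • P + t • Q) + n10 • (s • U + t • V))
      (n00 • (s • P + t • Q) + n10 • (s • U + t • V)) (n01 • (s • P + t • Q) + n11 • (s • U + t • V)) =
      δ * (2 * r3 * n00 * n01 + r1 * (n00 * n11 + n01 * n10) + 2 * r0 * n10 * n11) * cub be' s t -
      δ * (r3 * n00 ^ 2 + r1 * n00 * n10 + r0 * n10 ^ 2) * cub al' s t := fun s t => by
    rw [hT.sq_smul_add_smul]
    have g1 := gA s t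
    have g2 := gB s t
    have g3 := gD s t
    have g4 := gE s t
    generalize s • P + t • Q = m at *
    generalize s • U + t • V = l at *
    simp only [map_add, map_smul, smul_eq_mul]
    rw [hT.s23 m l m, hT.rot' l l m]
    linear_combination 3 * n00 ^ 2 * n01 * g1 + (n00 ^ 2 * n11 + 2 * n00 * n10 * n01) * g2 +
      (2 * n00 * n10 * n11 + n10 ^ 2 * n01) * g3 + 3 * n10 ^ 2 * n11 * g4 -
      (2 * r3 * n00 * n01 + r1 * (n00 * n11 + n01 * n10) + 2 * r0 * n10 * n11) * cbe' s t +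
      (r3 * n00 ^ 2 + r1 * n00 * n10 + r0 * n10 ^ 2) * cal' s t
  have v3 : ∀ s t, 3 * T (n00 • (s • P + t • Q) + n10 • (s • U + t • V))
      (n01 • (s • P + t • Q) + n11 • (s • U + t • V)) (n01 • (s • P + t • Q) + n11 • (s • U + t • V)) =
      δ * (r3 * n01 ^ 2 + r1 * n01 * n11 + r0 * n11 ^ 2) * cub be' s t -
      δ * (2 * r3 * n00 * n01 + r1 * (n00 * n11 + n01 * n10) + 2 * r0 * n10 * n11) * cub al' s t := fun s t => by
    have g1 := gA s t
    have g2 := gB s t
    have g3 := gD s t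
    have g4 := gE s t
    generalize s • P + t • Q = m at *
    generalize s • U + t • V = l at *
    simp only [map_add, map_smul, smul_eq_mul, LinearMap.add_apply, LinearMap.smul_apply]
    rw [hT.s23 m l m, hT.rot l m m, hT.s12 l m l, hT.rot' l l m]
    linear_combination 3 * n00 * n01 ^ 2 * g1 + (2 * n00 * n01 * n11 + n10 * n01 ^ 2) * g2 +
      (n00 * n11 ^ 2 + 2 * n10 * n01 * n11) * g3 + 3 * n10 * n11 ^ 2 * g4 -
      (r3 * n01 ^ 2 + r1 * n01 * n11 + r0 * n11 ^ 2) * cbe' s t +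
      (2 * r3 * n00 * n01 + r1 * (n00 * n11 + n01 * n10) + 2 * r0 * n10 * n11) * cal' s t
  have v4 : ∀ s t, T (n01 • (s • P + t • Q) + n11 • (s • U + t • V)) (n01 • (s • P + t • Q) + n11 • (s • U + t • V))
      (n01 • (s • P + t • Q) + n11 • (s • U + t • V)) =
      - (δ * (r3 * n01 ^ 2 + r1 * n01 * n11 + r0 * n11 ^ 2) * cub al' s t) := fun s t => by
    rw [hT.cube_smul_add_smul]
    linear_combination n01 ^ 3 * gA s t + n01 ^ 2 * n11 * gB s t + n01 * n11 ^ 2 * gD s t + n11 ^ 3 * gE s t +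
      (r3 * n01 ^ 2 + r1 * n01 * n11 + r0 * n11 ^ 2) * cal' s t
  refine ⟨al', be', n00 • P + n10 • U, n00 • Q + n10 • V, n01 • P + n11 • U, n01 • Q + n11 • V, ?_, ?_, ?_⟩
  · rw [Fintype.linearIndependent_iff] at hli ⊢
    intro g hg
    have h1 := hli ![g 0 * n00 + g 2 * n01, g 1 * n00 + g 3 * n01, g 0 * n10 + g 2 * n11, g 1 * n10 + g 3 * n11] (by
      simp only [Fin.sum_univ_four, Matrix.cons_val] at hg ⊢
      rw [← hg]
      module)
    have e0 := h1 0
    have e1 := h1 1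
    have e2 := h1 2
    have e3 := h1 3
    simp only [Matrix.cons_val] at e0 e1 e2 e3
    intro i
    fin_cases i
    · exact (mul_eq_zero.1 (show δ * g 0 = 0 by rw [← hδ]; linear_combination n11 * e0 - n01 * e2)).resolve_left hδ0
    · exact (mul_eq_zero.1 (show δ * g 1 = 0 by rw [← hδ]; linear_combination n11 * e1 - n01 * e3)).resolve_left hδ0
    · exact (mul_eq_zero.1 (show δ * g 2 = 0 by rw [← hδ]; linear_combination n00 * e2 - n10 * e0)).resolve_left hδ0
    · exact (mul_eq_zero.1 (show δ * g 3 = 0 by rw [← hδ]; linear_combination n00 * e3 - n10 * e1)).resolve_left hδ0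
  · intro s t
    rw [gpt, gpt, hm, hl]
    have k1 : cub al s t = n00 * cub al' s t + n01 * cub be' s t := by
      apply mul_left_cancel₀ hδ0
      have h1 := cal' s t
      have h2 := cbe' s t
      rw [← hδ] at h1 h2 ⊢
      linear_combination -(n00 * h1) - n01 * h2
    have k2 : cub be s t = n10 * cub al' s t + n11 * cub be' s t := by
      apply mul_left_cancel₀ hδ0
      have h1 := cal' s t
      have h2 := cbe' s t
      rw [← hδ] at h1 h2 ⊢
      linear_combination -(n10 * h1) - n11 * h2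
    rw [k1, k2]
    module
  · rcases hN with ⟨w1, w2, w3⟩ | ⟨w1, w2, w3⟩
    · left
      intro s t
      have u1 := v1 s t
      have u2 := v2 s t
      have u3 := v3 s t
      have u4 := v4 s t
      rw [w1] at u1 u2
      rw [w2] at u2 u3
      rw [w3] at u3 u4
      rw [hm, hl]
      refine ⟨by rw [u1, zero_mul], ?_, ?_, by rw [u4, zero_mul, neg_zero]⟩
      · apply mul_left_cancel₀ c3
        rw [u2]; ring
      · apply mul_left_cancel₀ c3
        rw [u3]; ring
    · right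
      intro s t
      have u1 := v1 s t
      have u2 := v2 s t
      have u3 := v3 s t
      have u4 := v4 s t
      rw [w1] at u1 u2
      rw [w2] at u2 u3
      rw [w3] at u3 u4
      rw [hm, hl]
      refine ⟨by rw [u1, one_mul], by rw [u2]; ring, ?_, by rw [u4, zero_mul, neg_zero]⟩
      apply mul_left_cancel₀ c3
      rw [u3]; ring

end Groth.Agent.Fano.K51.DegNorm
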