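import Groth.Agent.Fano.K51.DegDim7
import Groth.Agent.Fano.K51.DegChart

/-!
# Degenerate rational quartics: the finite family of parameter rings

* `Idx`, `hh T α`, `RR T α`, `cc T α`: the charts, their equations, rings and universal coefficient vectors;
* `dim_RR`: `dim RR T α ≤ 7`; `aeval_cc`: the cubic vanishes on the universal curve;
* `exists_point`: coefficient vectors in a chart come from a `k`-point.
-/

set_option autoImplicit false
universe u

namespace Groth.Agent.Fano.K51.DegPt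

open Module MvPolynomial K656.Trilin K714.Frames Groth.Agent.Fano.K51.DegTB Groth.Agent.Fano.K51.DegDim
  Groth.Agent.Fano.K51.DegEq Groth.Agent.Fano.K51.DegDim7 Groth.Agent.Fano.K51.DegChart
  Groth.Agent.Fano.K51.DegDef

variable {k : Type u} [Field k] (T : (Fin 5 → k) →ₗ[k] (Fin 5 → k) →ₗ[k] (Fin 5 → k) →ₗ[k] k)

theorem pT_eq_tB {σ : Type} (u v w : Fin 5 → MvPolynomial σ k) : pT T u v w = tB T u v w := by
  simp only [pT, tB, MvPolynomial.algebraMap_eq]

/-- The charts. -/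
abbrev Idx : Type := (Fin 5 × Fin 5 × Fin 5 × Fin 5) ⊕ (Fin 5 × Fin 5 × Fin 5)

/-- The equations of a chart. -/
noncomputable def hh : Idx → Fin 4 ⊕ Fin 4 ⊕ Fin 4 ⊕ Unit → MvPolynomial (Fin (4 * 5)) k
  | Sum.inl (i, j, i', j') => hI T i j i' j'
  | Sum.inr (i, j, r) => hII T i j r true

/-- The ring of a chart. -/
abbrev RR (α : Idx) : Type u := MvPolynomial (Fin (4 * 5)) k ⧸ Ideal.span (Set.range (hh T α))

/-- The universal vectors. -/
noncomputable def vv (α : Idx) (a : Fin 4) : Fin 5 → RR T α := fun j => Ideal.Quotient.mk _ (Xv a j)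

/-- The universal coefficient vectors. -/
noncomputable def cc : ∀ α : Idx, Fin (4 + 1) → Fin 5 → RR T α
  | Sum.inl s => cI T (vv T (Sum.inl s) 0) (vv T (Sum.inl s) 1) (vv T (Sum.inl s) 2) (vv T (Sum.inl s) 3)
  | Sum.inr s => cII T (vv T (Sum.inr s) 0) (vv T (Sum.inr s) 1) (vv T (Sum.inr s) 2) (vv T (Sum.inr s) 3)

variable {T}

theorem dim_RR [IsAlgClosed k] [CharZero k] (hT : IsSym3 T) (hsm : K714.Surf.SmoothOn T ⊤) (α : Idx) :
    ringKrullDim (RR T α) ≤ (7 : ℕ) := by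
  rcases α with ⟨i, j, i', j'⟩ | ⟨i, j, r⟩
  · exact dim_I hT hsm i j i' j'
  · exact dim_II hT hsm i j r true

theorem tB_vv (α : Idx) (a b c : Fin 4) : tB T (vv T α a) (vv T α b) (vv T α c) =
    Ideal.Quotient.mk (Ideal.span (Set.range (hh T α))) (pT T (Xv a) (Xv b) (Xv c)) := by
  rw [pT_eq_tB]
  exact (map_tB T (Ideal.Quotient.mkₐ k (Ideal.span (Set.range (hh T α)))) (Xv a) (Xv b) (Xv c)).symm

theorem mk_hh (α : Idx) (n) : Ideal.Quotient.mk (Ideal.span (Set.range (hh T α))) (hh T α n) = 0 :=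
  Ideal.Quotient.eq_zero_iff_mem.2 (Ideal.subset_span ⟨n, rfl⟩)

theorem eqI_vv (s : Fin 5 × Fin 5 × Fin 5 × Fin 5) :
    EqI T (vv T (Sum.inl s) 0) (vv T (Sum.inl s) 1) (vv T (Sum.inl s) 2) (vv T (Sum.inl s) 3) := by
  refine ⟨?_, ?_, ?_, ?_, ?_, ?_, ?_, ?_⟩
  all_goals rw [tB_vv]
  · exact mk_hh (T := T) (Sum.inl s) (Sum.inl 0)
  · exact mk_hh (T := T) (Sum.inl s) (Sum.inl 1)
  · exact mk_hh (T := T) (Sum.inl s) (Sum.inl 2)
  · exact mk_hh (T := T) (Sum.inl s) (Sum.inl 3)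
  · exact mk_hh (T := T) (Sum.inl s) (Sum.inr (Sum.inl 0))
  · exact mk_hh (T := T) (Sum.inl s) (Sum.inr (Sum.inl 1))
  · exact mk_hh (T := T) (Sum.inl s) (Sum.inr (Sum.inl 2))
  · exact mk_hh (T := T) (Sum.inl s) (Sum.inr (Sum.inl 3))

theorem eqII_vv (s : Fin 5 × Fin 5 × Fin 5) :
    EqII T (vv T (Sum.inr s) 0) (vv T (Sum.inr s) 1) (vv T (Sum.inr s) 2) (vv T (Sum.inr s) 3) := by
  refine ⟨?_, ?_, ?_, ?_, ?_, ?_, ?_, ?_⟩
  · rw [tB_vv]; exact mk_hh (T := T) (Sum.inr s) (Sum.inl 0)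
  · rw [tB_vv, tB_vv]
    have h := mk_hh (T := T) (Sum.inr s) (Sum.inl 1)
    have e : hh T (Sum.inr s) (Sum.inl 1) = 2 * pT T (Xv 0) (Xv 2) (Xv 3) + pT T (Xv 1) (Xv 2) (Xv 2) := rfl
    rw [e, map_add, map_mul, map_ofNat] at h
    exact h
  · rw [tB_vv, tB_vv]
    have h := mk_hh (T := T) (Sum.inr s) (Sum.inl 2)
    have e : hh T (Sum.inr s) (Sum.inl 2) = pT T (Xv 0) (Xv 3) (Xv 3) + 2 * pT T (Xv 1) (Xv 2) (Xv 3) := rfl
    rw [e, map_add, map_mul, map_ofNat] at h
    exact h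
  · rw [tB_vv]; exact mk_hh (T := T) (Sum.inr s) (Sum.inl 3)
  · rw [tB_vv]; exact mk_hh (T := T) (Sum.inr s) (Sum.inr (Sum.inl 0))
  · rw [tB_vv]; exact mk_hh (T := T) (Sum.inr s) (Sum.inr (Sum.inl 1))
  · rw [tB_vv]; exact mk_hh (T := T) (Sum.inr s) (Sum.inr (Sum.inl 2))
  · rw [tB_vv]; exact mk_hh (T := T) (Sum.inr s) (Sum.inr (Sum.inl 3))

/-- The cubic vanishes on the universal curves. -/
theorem aeval_cc [CharZero k] {f : MvPolynomial (Fin 5) k} (hf : f.IsHomogeneous 3) (α : Idx) :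
    aeval (bf (cc (tri f) α)) f = 0 := by
  rcases α with s | s
  · exact aeval_bf_I hf (eqI_vv s)
  · exact aeval_bf_II hf (eqII_vv s)

/-- The point with given vectors. -/
def pk (p q u v : Fin 5 → k) : Fin (4 * 5) → k := fun n =>
  (![p, q, u, v] : Fin 4 → Fin 5 → k) (finProdFinEquiv.symm n).1 (finProdFinEquiv.symm n).2

omit [Field k] in
theorem vec_pk (p q u v : Fin 5 → k) (a : Fin 4) : vec (pk p q u v) a = ![p, q, u, v] a := by
  funext j
  simp [vec, pk, ix]

theorem eval_eqL (x : Fin (4 * 5) → k) (a b : Fin 4) (h0 : T (vec x a) (vec x a) (vec x a) = 0)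
    (h1 : T (vec x a) (vec x a) (vec x b) = 0) (h2 : T (vec x a) (vec x b) (vec x b) = 0)
    (h3 : T (vec x b) (vec x b) (vec x b) = 0) (n : Fin 4) : eval x (eqL T a b n) = 0 := by
  fin_cases n
  · simp [eqL, eval_pT, eval_Xv, h0]
  · simp [eqL, eval_pT, eval_Xv, h1]
  · simp [eqL, eval_pT, eval_Xv, h2]
  · simp [eqL, eval_pT, eval_Xv, h3]

theorem eval_eqS (x : Fin (4 * 5) → k) (a b : Fin 4) (i j : Fin 5) (h0 : vec x a i = 1)
    (h1 : vec x a j = 0) (h2 : vec x b i = 0) (h3 : vec x b j = 1) (n : Fin 4) :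
    eval x (eqS a b i j n : MvPolynomial (Fin (4 * 5)) k) = 0 := by
  rw [vec] at h0 h1 h2 h3
  fin_cases n
  · simp [eqS, h0]
  · simp [eqS, h1]
  · simp [eqS, h2]
  · simp [eqS, h3]

/-- The `k`-point of the ring. -/
theorem exists_hom (α : Idx) (x : Fin (4 * 5) → k) (hx : ∀ n, eval x (hh T α n) = 0) :
    ∃ m : RR T α →ₐ[k] k, ∀ a j, m (vv T α a j) = vec x a j := by
  refine ⟨Ideal.Quotient.liftₐ _ (aeval x) (fun p hp => ?_), fun a j => ?_⟩
  · have h1 : Ideal.span (Set.range (hh T α)) ≤ RingHom.ker (aeval x : MvPolynomial (Fin (4 * 5)) k →ₐ[k] k) := by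
      rw [Ideal.span_le]
      rintro _ ⟨n, rfl⟩
      exact hx n
    exact h1 hp
  · rw [vv]
    have h := Ideal.Quotient.liftₐ_apply (Ideal.span (Set.range (hh T α)))
      (aeval x : MvPolynomial (Fin (4 * 5)) k →ₐ[k] k) (fun p hp => by
        have h1 : Ideal.span (Set.range (hh T α)) ≤
            RingHom.ker (aeval x : MvPolynomial (Fin (4 * 5)) k →ₐ[k] k) := by
          rw [Ideal.span_le]
          rintro _ ⟨n, rfl⟩
          exact hx n
        exact h1 hp) (Ideal.Quotient.mk _ (Xv a j))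
    rw [h, Ideal.Quotient.lift_mk]
    simp [Xv, vec]

theorem map_cI {B B' : Type*} [CommRing B] [Algebra k B] [CommRing B'] [Algebra k B'] (φ : B →ₐ[k] B')
    (p q u v : Fin 5 → B) (a : Fin 5) (j : Fin 5) : φ (cI T p q u v a j) =
      cI T (fun i => φ (p i)) (fun i => φ (q i)) (fun i => φ (u i)) (fun i => φ (v i)) a j := by
  rw [cI, map_cf, cI]
  have e1 : (fun i => φ (AI T p q u v i)) =
      AI T (fun i => φ (p i)) (fun i => φ (q i)) (fun i => φ (u i)) (fun i => φ (v i)) := by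
    funext i
    fin_cases i <;> simp [AI, map_tB, map_ofNat φ 2]
  have e2 : (fun i => φ (BI T p q u v i)) =
      BI T (fun i => φ (p i)) (fun i => φ (q i)) (fun i => φ (u i)) (fun i => φ (v i)) := by
    funext i
    fin_cases i <;> simp [BI, map_tB, map_ofNat φ 2]
  rw [e1, e2]

theorem map_cII {B B' : Type*} [CommRing B] [Algebra k B] [CommRing B'] [Algebra k B'] (φ : B →ₐ[k] B')
    (p q u v : Fin 5 → B) (a : Fin 5) (j : Fin 5) : φ (cII T p q u v a j) =
      cII T (fun i => φ (p i)) (fun i => φ (q i)) (fun i => φ (u i)) (fun i => φ (v i)) a j := by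
  rw [cII, map_cf, cII]
  have e1 : (fun i => φ (AII T p q u v i)) =
      AII T (fun i => φ (p i)) (fun i => φ (q i)) (fun i => φ (u i)) (fun i => φ (v i)) := by
    funext i
    fin_cases i <;> simp [AII, map_tB, map_ofNat φ 2, map_ofNat φ 3]
  have e2 : (fun i => φ (BII T p q i)) = BII T (fun i => φ (p i)) (fun i => φ (q i)) := by
    funext i
    fin_cases i <;> simp [BII, map_tB, map_ofNat φ 3]
  rw [e1, e2]

/-- Coefficient vectors in a chart come from a `k`-point. -/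
theorem exists_point {c : Fin (4 + 1) → Fin 5 → k} (h : InChart T c) :
    ∃ (α : Idx) (m : RR T α →ₐ[k] k), ∀ a j, m (cc T α a j) = c a j := by
  rcases h with ⟨i, j, i', j', p, q, u, v, hE, h1, h2, h3, h4, h5, rfl⟩ |
    ⟨i, j, r, p, q, u, v, hE, h1, h2, h3, h4, h5, rfl⟩
  · obtain ⟨m, hm⟩ := exists_hom (T := T) (Sum.inl (i, j, i', j')) (pk p q u v) (fun n => by
      have v0 := vec_pk p q u v 0
      have v1 := vec_pk p q u v 1
      have v2 := vec_pk p q u v 2
      have v3 := vec_pk p q u v 3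
      simp only [Matrix.cons_val] at v0 v1 v2 v3
      obtain ⟨m0, m1, m2, m3, l0, l1, l2, l3⟩ := hE
      rw [tB_self] at m0 m1 m2 m3 l0 l1 l2 l3
      rcases n with n | n | n | n
      · exact eval_eqL _ 0 1 (by rw [v0, m0]) (by rw [v0, v1, m1]) (by rw [v0, v1, m2]) (by rw [v1, m3]) n
      · exact eval_eqL _ 2 3 (by rw [v2, l0]) (by rw [v2, v3, l1]) (by rw [v2, v3, l2]) (by rw [v3, l3]) n
      · exact eval_eqS _ 0 1 i j (by rw [v0, h1]) (by rw [v0, h2]) (by rw [v1, h3]) (by rw [v1, h4]) n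
      · have e : hh T (Sum.inl (i, j, i', j')) (Sum.inr (Sum.inr (Sum.inr n))) =
          X (ix 2 i') * X (ix 3 j') - X (ix 2 j') * X (ix 3 i') - 1 := rfl
        rw [e, map_sub, map_sub, map_mul, map_mul, eval_X, eval_X, eval_X, eval_X, map_one]
        have w1 := congrFun v2 i'
        have w2 := congrFun v2 j'
        have w3 := congrFun v3 i'
        have w4 := congrFun v3 j'
        rw [vec] at w1 w2 w3 w4
        rw [w1, w2, w3, w4, h5, sub_self])
    refine ⟨Sum.inl (i, j, i', j'), m, fun a b => ?_⟩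
    rw [cc, map_cI]
    simp only [hm, vec_pk, Matrix.cons_val]
  · obtain ⟨m, hm⟩ := exists_hom (T := T) (Sum.inr (i, j, r)) (pk p q u v) (fun n => by
      have v0 := vec_pk p q u v 0
      have v1 := vec_pk p q u v 1
      have v2 := vec_pk p q u v 2
      have v3 := vec_pk p q u v 3
      simp only [Matrix.cons_val] at v0 v1 v2 v3
      obtain ⟨m0, m1, m2, m3, l0, l1, l2, l3⟩ := hE
      rw [tB_self] at m0 m3 l0 l1 l2 l3
      rw [tB_self, tB_self] at m1 m2
      rcases n with n | n | n | n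
      · have e : hh T (Sum.inr (i, j, r)) (Sum.inl n) = eqM T n := rfl
        rw [e]
        fin_cases n
        · simp [eqM, eval_pT, eval_Xv, v0, v2, m0]
        · simp [eqM, eval_pT, eval_Xv, v0, v1, v2, v3, m1]
        · simp [eqM, eval_pT, eval_Xv, v0, v1, v2, v3, m2]
        · simp [eqM, eval_pT, eval_Xv, v1, v3, m3]
      · exact eval_eqL _ 2 3 (by rw [v2, l0]) (by rw [v2, v3, l1]) (by rw [v2, v3, l2]) (by rw [v3, l3]) n
      · exact eval_eqS _ 2 3 i j (by rw [v2, h1]) (by rw [v2, h2]) (by rw [v3, h3]) (by rw [v3, h4]) n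
      · have e : hh T (Sum.inr (i, j, r)) (Sum.inr (Sum.inr (Sum.inr n))) = X (ix 0 r) - 1 := rfl
        rw [e, map_sub, eval_X, map_one]
        have w1 := congrFun v0 r
        rw [vec] at w1
        rw [w1, h5, sub_self])
    refine ⟨Sum.inr (i, j, r), m, fun a b => ?_⟩
    rw [cc, map_cII]
    simp only [hm, vec_pk, Matrix.cons_val]

end Groth.Agent.Fano.K51.DegPt
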