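import Groth.Agent.Fano.K51.DegNorm
import Groth.Agent.Fano.K51.DegDef
import Groth.Agent.Fano.K714.Frames

/-!
# Degenerate rational quartics: the trilinear form over an algebra and the coefficient vectors

* `tB T u v w`: the trilinear form `T` on vectors with entries in a `k`-algebra;
* `cf A B p q u v`: the coefficient vectors of `A(s,t)(s p + t q) + B(s,t)(s u + t v)`;
* `AI, BI`, `AII, BII`: the binary cubics of the two normal forms;
* `aeval_bf_I`, `aeval_bf_II`: the cubic vanishes on the parametrised curve.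
-/

set_option autoImplicit false
universe u v

namespace Groth.Agent.Fano.K51.DegTB

open Module K656.Trilin Groth.Agent.Fano.K51.DegFrame Groth.Agent.Fano.K51.DegDiv Groth.Agent.Fano.K51.DegNorm
  Groth.Agent.Fano.K51.DegDef

variable {k : Type u} [Field k] (T : (Fin 5 → k) →ₗ[k] (Fin 5 → k) →ₗ[k] (Fin 5 → k) →ₗ[k] k)

section Alg

variable {B : Type v} [CommRing B] [Algebra k B]

/-- The trilinear form over an algebra. -/
def tB (u v w : Fin 5 → B) : B :=
  ∑ i, ∑ j, ∑ l, algebraMap k B (T (Pi.single i 1) (Pi.single j 1) (Pi.single l 1)) * (u i * v j * w l)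

theorem tB_add₁ (u u' v w : Fin 5 → B) : tB T (u + u') v w = tB T u v w + tB T u' v w := by
  simp only [tB, Pi.add_apply, add_mul, mul_add, Finset.sum_add_distrib]

theorem tB_add₂ (u v v' w : Fin 5 → B) : tB T u (v + v') w = tB T u v w + tB T u v' w := by
  simp only [tB, Pi.add_apply, add_mul, mul_add, Finset.sum_add_distrib]

theorem tB_add₃ (u v w w' : Fin 5 → B) : tB T u v (w + w') = tB T u v w + tB T u v w' := by
  simp only [tB, Pi.add_apply, mul_add, Finset.sum_add_distrib]

theorem tB_smul₁ (a : B) (u v w : Fin 5 → B) : tB T (a • u) v w = a * tB T u v w := by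
  simp only [tB, Pi.smul_apply, smul_eq_mul, Finset.mul_sum]
  exact Finset.sum_congr rfl fun i _ => Finset.sum_congr rfl fun j _ => Finset.sum_congr rfl fun l _ => by ring

theorem tB_smul₂ (a : B) (u v w : Fin 5 → B) : tB T u (a • v) w = a * tB T u v w := by
  simp only [tB, Pi.smul_apply, smul_eq_mul, Finset.mul_sum]
  exact Finset.sum_congr rfl fun i _ => Finset.sum_congr rfl fun j _ => Finset.sum_congr rfl fun l _ => by ring

theorem tB_smul₃ (a : B) (u v w : Fin 5 → B) : tB T u v (a • w) = a * tB T u v w := by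
  simp only [tB, Pi.smul_apply, smul_eq_mul, Finset.mul_sum]
  exact Finset.sum_congr rfl fun i _ => Finset.sum_congr rfl fun j _ => Finset.sum_congr rfl fun l _ => by ring

variable {T}

theorem tB_s12 (hT : IsSym3 T) (u v w : Fin 5 → B) : tB T u v w = tB T v u w := by
  rw [tB, tB, Finset.sum_comm]
  refine Finset.sum_congr rfl fun i _ => Finset.sum_congr rfl fun j _ => Finset.sum_congr rfl fun l _ => ?_
  rw [hT.s12]; ring

theorem tB_s23 (hT : IsSym3 T) (u v w : Fin 5 → B) : tB T u v w = tB T u w v := by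
  rw [tB, tB]
  refine Finset.sum_congr rfl fun i _ => ?_
  rw [Finset.sum_comm]
  refine Finset.sum_congr rfl fun j _ => Finset.sum_congr rfl fun l _ => ?_
  rw [hT.s23]; ring

variable (T)

theorem map_tB {B' : Type*} [CommRing B'] [Algebra k B'] (φ : B →ₐ[k] B') (u v w : Fin 5 → B) :
    φ (tB T u v w) = tB T (fun i => φ (u i)) (fun i => φ (v i)) (fun i => φ (w i)) := by
  simp only [tB, map_sum, map_mul, AlgHom.commutes]

theorem tB_self (u v w : Fin 5 → k) : tB T u v w = T u v w := by
  rw [K714.Frames.T_expand, tB]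
  rfl

/-- The binary cubic over an algebra, in the two variables `s, t`. -/
def cubB (A : Fin 4 → B) (s t : B) : B := A 0 * s ^ 3 + A 1 * (s ^ 2 * t) + A 2 * (s * t ^ 2) + A 3 * t ^ 3

/-- The coefficient vectors of `A(s,t)(s p + t q) + B(s,t)(s u + t v)`. -/
def cf (A C : Fin 4 → B) (p q u v : Fin 5 → B) : Fin (4 + 1) → Fin 5 → B :=
  ![fun j => A 0 * p j + C 0 * u j,
    fun j => A 1 * p j + A 0 * q j + C 1 * u j + C 0 * v j,
    fun j => A 2 * p j + A 1 * q j + C 2 * u j + C 1 * v j,
    fun j => A 3 * p j + A 2 * q j + C 3 * u j + C 2 * v j,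
    fun j => A 3 * q j + C 3 * v j]

theorem map_cf {B' : Type*} [CommRing B'] [Algebra k B'] (φ : B →ₐ[k] B') (A C : Fin 4 → B) (p q u v : Fin 5 → B)
    (a : Fin 5) (j : Fin 5) : φ (cf A C p q u v a j) =
      cf (fun i => φ (A i)) (fun i => φ (C i)) (fun i => φ (p i)) (fun i => φ (q i)) (fun i => φ (u i))
        (fun i => φ (v i)) a j := by
  fin_cases a <;> simp [cf]

theorem cpt_cf (A C : Fin 4 → k) (p q u v : Fin 5 → k) (s t : k) :
    Groth.Agent.Fano.K714.Rat.cpt (cf A C p q u v) s t = gpt A C p q u v s t := by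
  ext j
  rw [cpt_four, gpt]
  simp [cf, cub]
  ring

theorem bf_cf (A C : Fin 4 → B) (p q u v : Fin 5 → B) (j : Fin 5) :
    bf (cf A C p q u v) j =
      cubB (fun i => MvPolynomial.C (A i)) (MvPolynomial.X 0) (MvPolynomial.X 1) *
        (MvPolynomial.X 0 * MvPolynomial.C (p j) + MvPolynomial.X 1 * MvPolynomial.C (q j)) +
      cubB (fun i => MvPolynomial.C (C i)) (MvPolynomial.X 0) (MvPolynomial.X 1) *
        (MvPolynomial.X 0 * MvPolynomial.C (u j) + MvPolynomial.X 1 * MvPolynomial.C (v j)) := by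
  simp [bf, Fin.sum_univ_five, cf, cubB]
  ring

/-- First normal form. -/
def AI (p q u v : Fin 5 → B) : Fin 4 → B :=
  ![-(tB T p u u), -(2 * tB T p u v + tB T q u u), -(tB T p v v + 2 * tB T q u v), -(tB T q v v)]

/-- First normal form. -/
def BI (p q u v : Fin 5 → B) : Fin 4 → B :=
  ![tB T p p u, tB T p p v + 2 * tB T p q u, 2 * tB T p q v + tB T q q u, tB T q q v]

/-- Second normal form. -/
def AII (p q u v : Fin 5 → B) : Fin 4 → B :=
  ![-(3 * tB T p p u), -(3 * (tB T p p v + 2 * tB T p q u)), -(3 * (2 * tB T p q v + tB T q q u)),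
    -(3 * tB T q q v)]

/-- Second normal form. -/
def BII (p q : Fin 5 → B) : Fin 4 → B :=
  ![tB T p p p, 3 * tB T p p q, 3 * tB T p q q, tB T q q q]

variable {T}

theorem tB_cube (hT : IsSym3 T) (a b : B) (m l : Fin 5 → B) :
    tB T (a • m + b • l) (a • m + b • l) (a • m + b • l) =
      a ^ 3 * tB T m m m + 3 * a ^ 2 * b * tB T m m l + 3 * a * b ^ 2 * tB T m l l + b ^ 3 * tB T l l l := by
  simp only [tB_add₁, tB_add₂, tB_add₃, tB_smul₁, tB_smul₂, tB_smul₃]
  rw [tB_s12 hT l m m, tB_s23 hT m l m, tB_s23 hT l l m, tB_s12 hT l m l]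
  ring

theorem tB_sq (hT : IsSym3 T) (a b : B) (m l w : Fin 5 → B) :
    tB T (a • m + b • l) (a • m + b • l) w =
      a ^ 2 * tB T m m w + 2 * a * b * tB T m l w + b ^ 2 * tB T l l w := by
  simp only [tB_add₁, tB_add₂, tB_smul₁, tB_smul₂]
  rw [tB_s12 hT l m w]
  ring

theorem tB_mml (hT : IsSym3 T) (s t : B) (p q u v : Fin 5 → B) :
    tB T (s • p + t • q) (s • p + t • q) (s • u + t • v) = cubB (BI T p q u v) s t := by
  rw [tB_sq hT]
  simp only [tB_add₃, tB_smul₃, cubB, BI, Matrix.cons_val]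
  ring

theorem tB_mll (hT : IsSym3 T) (s t : B) (p q u v : Fin 5 → B) :
    tB T (s • p + t • q) (s • u + t • v) (s • u + t • v) = - cubB (AI T p q u v) s t := by
  simp only [tB_add₁, tB_add₂, tB_add₃, tB_smul₁, tB_smul₂, tB_smul₃, cubB, AI, Matrix.cons_val]
  rw [tB_s23 hT p v u, tB_s23 hT q v u]
  ring

theorem tB_mmm (hT : IsSym3 T) (s t : B) (p q : Fin 5 → B) :
    tB T (s • p + t • q) (s • p + t • q) (s • p + t • q) = cubB (BII T p q) s t := by
  rw [tB_cube hT]
  simp only [cubB, BII, Matrix.cons_val]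
  ring

theorem three_tB_mml (hT : IsSym3 T) (s t : B) (p q u v : Fin 5 → B) :
    3 * tB T (s • p + t • q) (s • p + t • q) (s • u + t • v) = - cubB (AII T p q u v) s t := by
  rw [tB_mml hT]
  simp only [cubB, BI, AII, Matrix.cons_val]
  ring

/-- The equations of the first normal form. -/
structure EqI (T : (Fin 5 → k) →ₗ[k] (Fin 5 → k) →ₗ[k] (Fin 5 → k) →ₗ[k] k) (p q u v : Fin 5 → B) : Prop where
  m0 : tB T p p p = 0
  m1 : tB T p p q = 0
  m2 : tB T p q q = 0
  m3 : tB T q q q = 0
  l0 : tB T u u u = 0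
  l1 : tB T u u v = 0
  l2 : tB T u v v = 0
  l3 : tB T v v v = 0

/-- The equations of the second normal form. -/
structure EqII (T : (Fin 5 → k) →ₗ[k] (Fin 5 → k) →ₗ[k] (Fin 5 → k) →ₗ[k] k) (p q u v : Fin 5 → B) : Prop where
  m0 : tB T p u u = 0
  m1 : 2 * tB T p u v + tB T q u u = 0
  m2 : tB T p v v + 2 * tB T q u v = 0
  m3 : tB T q v v = 0
  l0 : tB T u u u = 0
  l1 : tB T u u v = 0
  l2 : tB T u v v = 0
  l3 : tB T v v v = 0

theorem cube_I (hT : IsSym3 T) {p q u v : Fin 5 → B} (h : EqI T p q u v) (s t : B) :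
    tB T (cubB (AI T p q u v) s t • (s • p + t • q) + cubB (BI T p q u v) s t • (s • u + t • v))
      (cubB (AI T p q u v) s t • (s • p + t • q) + cubB (BI T p q u v) s t • (s • u + t • v))
      (cubB (AI T p q u v) s t • (s • p + t • q) + cubB (BI T p q u v) s t • (s • u + t • v)) = 0 := by
  have h1 : tB T (s • p + t • q) (s • p + t • q) (s • p + t • q) = 0 := by
    rw [tB_cube hT, h.m0, h.m1, h.m2, h.m3]; ring
  have h2 : tB T (s • u + t • v) (s • u + t • v) (s • u + t • v) = 0 := by
    rw [tB_cube hT, h.l0, h.l1, h.l2, h.l3]; ring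
  rw [tB_cube hT, h1, h2, tB_mml hT, tB_mll hT]
  ring

theorem cube_II (hT : IsSym3 T) {p q u v : Fin 5 → B} (h : EqII T p q u v) (s t : B) :
    tB T (cubB (AII T p q u v) s t • (s • p + t • q) + cubB (BII T p q) s t • (s • u + t • v))
      (cubB (AII T p q u v) s t • (s • p + t • q) + cubB (BII T p q) s t • (s • u + t • v))
      (cubB (AII T p q u v) s t • (s • p + t • q) + cubB (BII T p q) s t • (s • u + t • v)) = 0 := by
  have h1 : tB T (s • p + t • q) (s • u + t • v) (s • u + t • v) = 0 := by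
    rw [tB_mll hT]
    simp only [cubB, AI, Matrix.cons_val]
    rw [h.m0, h.m1, h.m2, h.m3]
    ring
  rw [tB_cube hT, h1, tB_mmm hT, tB_cube hT s t u v, h.l0, h.l1, h.l2, h.l3]
  linear_combination cubB (AII T p q u v) s t ^ 2 * cubB (BII T p q) s t * three_tB_mml hT s t p q u v

end Alg

section Poly

variable {B : Type v} [CommRing B] [Algebra k B]

/-- The cubic in terms of the trilinear form. -/
theorem aeval_eq_tB [CharZero k] {f : MvPolynomial (Fin 5) k} (hf : f.IsHomogeneous 3) (z : Fin 5 → B) :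
    MvPolynomial.aeval z f = tB (tri f) z z z := by
  have hinf : Infinite k := Infinite.of_injective _ (Nat.cast_injective (R := k))
  have h1 : f = tB (tri f) (fun i => MvPolynomial.X i) (fun i => MvPolynomial.X i) (fun i => MvPolynomial.X i) := by
    apply MvPolynomial.funext
    intro x
    have h2 := map_tB (tri f) (MvPolynomial.aeval x : MvPolynomial (Fin 5) k →ₐ[k] k)
      (fun i => MvPolynomial.X i) (fun i => MvPolynomial.X i) (fun i => MvPolynomial.X i)
    simp only [MvPolynomial.aeval_X] at h2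
    rw [MvPolynomial.aeval_eq_eval] at h2
    rw [h2, tB_self, tri_diag hf]
  conv_lhs => rw [h1]
  rw [map_tB]
  simp only [MvPolynomial.aeval_X]

theorem bf_cf' (A D : Fin 4 → B) (p q u v : Fin 5 → B) :
    bf (cf A D p q u v) =
      cubB (fun i => (MvPolynomial.C (A i) : MvPolynomial (Fin 2) B)) (MvPolynomial.X 0) (MvPolynomial.X 1) •
        ((MvPolynomial.X 0 : MvPolynomial (Fin 2) B) • (fun i => MvPolynomial.C (p i)) +
          (MvPolynomial.X 1 : MvPolynomial (Fin 2) B) • (fun i => MvPolynomial.C (q i))) +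
      cubB (fun i => (MvPolynomial.C (D i) : MvPolynomial (Fin 2) B)) (MvPolynomial.X 0) (MvPolynomial.X 1) •
        ((MvPolynomial.X 0 : MvPolynomial (Fin 2) B) • (fun i => MvPolynomial.C (u i)) +
          (MvPolynomial.X 1 : MvPolynomial (Fin 2) B) • (fun i => MvPolynomial.C (v i))) := by
  funext j
  rw [bf_cf]
  simp only [Pi.add_apply, Pi.smul_apply, smul_eq_mul]

theorem C_two : (MvPolynomial.C (2 : B) : MvPolynomial (Fin 2) B) = 2 := map_ofNat _ 2

theorem C_three : (MvPolynomial.C (3 : B) : MvPolynomial (Fin 2) B) = 3 := map_ofNat _ 3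

theorem tB_C (T : (Fin 5 → k) →ₗ[k] (Fin 5 → k) →ₗ[k] (Fin 5 → k) →ₗ[k] k) (p q u : Fin 5 → B) :
    tB T (fun i => (MvPolynomial.C (p i) : MvPolynomial (Fin 2) B)) (fun i => MvPolynomial.C (q i))
      (fun i => MvPolynomial.C (u i)) = MvPolynomial.C (tB T p q u) := by
  have h := map_tB T (IsScalarTower.toAlgHom k B (MvPolynomial (Fin 2) B)) p q u
  simp only [IsScalarTower.coe_toAlgHom', MvPolynomial.algebraMap_eq] at h
  exact h.symm

theorem aeval_bf_I [CharZero k] {f : MvPolynomial (Fin 5) k} (hf : f.IsHomogeneous 3) {p q u v : Fin 5 → B}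
    (h : EqI (tri f) p q u v) :
    MvPolynomial.aeval (bf (cf (AI (tri f) p q u v) (BI (tri f) p q u v) p q u v)) f = 0 := by
  have h' : EqI (tri f) (fun i => (MvPolynomial.C (p i) : MvPolynomial (Fin 2) B)) (fun i => MvPolynomial.C (q i))
      (fun i => MvPolynomial.C (u i)) (fun i => MvPolynomial.C (v i)) :=
    ⟨by rw [tB_C, h.m0, map_zero], by rw [tB_C, h.m1, map_zero], by rw [tB_C, h.m2, map_zero],
      by rw [tB_C, h.m3, map_zero], by rw [tB_C, h.l0, map_zero], by rw [tB_C, h.l1, map_zero],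
      by rw [tB_C, h.l2, map_zero], by rw [tB_C, h.l3, map_zero]⟩
  have e1 : (fun i => (MvPolynomial.C (AI (tri f) p q u v i) : MvPolynomial (Fin 2) B)) =
      AI (tri f) (fun i => (MvPolynomial.C (p i) : MvPolynomial (Fin 2) B)) (fun i => MvPolynomial.C (q i))
      (fun i => MvPolynomial.C (u i)) (fun i => MvPolynomial.C (v i)) := by
    funext i
    fin_cases i <;> simp [AI, tB_C, C_two]
  have e2 : (fun i => (MvPolynomial.C (BI (tri f) p q u v i) : MvPolynomial (Fin 2) B)) =
      BI (tri f) (fun i => (MvPolynomial.C (p i) : MvPolynomial (Fin 2) B)) (fun i => MvPolynomial.C (q i))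
      (fun i => MvPolynomial.C (u i)) (fun i => MvPolynomial.C (v i)) := by
    funext i
    fin_cases i <;> simp [BI, tB_C, C_two]
  rw [aeval_eq_tB hf, bf_cf', e1, e2]
  exact cube_I (tri_sym f) h' _ _

theorem aeval_bf_II [CharZero k] {f : MvPolynomial (Fin 5) k} (hf : f.IsHomogeneous 3) {p q u v : Fin 5 → B}
    (h : EqII (tri f) p q u v) :
    MvPolynomial.aeval (bf (cf (AII (tri f) p q u v) (BII (tri f) p q) p q u v)) f = 0 := by
  have h' : EqII (tri f) (fun i => (MvPolynomial.C (p i) : MvPolynomial (Fin 2) B)) (fun i => MvPolynomial.C (q i))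
      (fun i => MvPolynomial.C (u i)) (fun i => MvPolynomial.C (v i)) := by
    refine ⟨by rw [tB_C, h.m0, map_zero], ?_, ?_,
      by rw [tB_C, h.m3, map_zero], by rw [tB_C, h.l0, map_zero], by rw [tB_C, h.l1, map_zero],
      by rw [tB_C, h.l2, map_zero], by rw [tB_C, h.l3, map_zero]⟩
    · have := congrArg (MvPolynomial.C : B →+* MvPolynomial (Fin 2) B) h.m1
      rw [map_add, map_mul, map_zero, C_two] at this
      rw [tB_C, tB_C, this]
    · have := congrArg (MvPolynomial.C : B →+* MvPolynomial (Fin 2) B) h.m2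
      rw [map_add, map_mul, map_zero, C_two] at this
      rw [tB_C, tB_C, this]
  have e1 : (fun i => (MvPolynomial.C (AII (tri f) p q u v i) : MvPolynomial (Fin 2) B)) =
      AII (tri f) (fun i => (MvPolynomial.C (p i) : MvPolynomial (Fin 2) B)) (fun i => MvPolynomial.C (q i))
      (fun i => MvPolynomial.C (u i)) (fun i => MvPolynomial.C (v i)) := by
    funext i
    fin_cases i <;> simp [AII, tB_C, C_two, C_three]
  have e2 : (fun i => (MvPolynomial.C (BII (tri f) p q i) : MvPolynomial (Fin 2) B)) =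
      BII (tri f) (fun i => (MvPolynomial.C (p i) : MvPolynomial (Fin 2) B)) (fun i => MvPolynomial.C (q i)) := by
    funext i
    fin_cases i <;> simp [BII, tB_C, C_three]
  rw [aeval_eq_tB hf, bf_cf', e1, e2]
  exact cube_II (tri_sym f) h' _ _

end Poly

end Groth.Agent.Fano.K51.DegTB
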