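import Groth.Agent.Fano.K714.RatDef
import Groth.Agent.Fano.K51.DegDef

/-!
# PLAN (sorried, never import in a shipped proof): nodes of S16531 for helper484

* `topDim` (TOP), `dim_le` (TOP + FAM), `repar` (REPAR).
-/

set_option autoImplicit false
universe u
open CategoryTheory CategoryTheory.Limits AlgebraicGeometry TopologicalSpace Opposite

namespace Groth.Agent.Fano.K51.PlanT

open Groth.Agent.Fano.K714.Rat Groth.Agent.Fano.K51.DegDef

/-- TOP. `H` is an arbitrary scheme over `k`. -/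
theorem topDim {k : Type u} [Field k] (H : Over (Spec (CommRingCat.of k))) (n : ℕ) {ι : Type} [Finite ι]
    (U : ι → Over (Spec (CommRingCat.of k))) (g : ∀ α, U α ⟶ H)
    (hU : ∀ α, LocallyOfFiniteType (U α).hom ∧ QuasiCompact (U α).hom ∧ topologicalKrullDim ↥(U α).left ≤ n)
    (T : Set ↥H.left) (hT : ∀ x ∈ T, ∃ α, x ∈ Set.range (g α).left.base) :
    topologicalKrullDim ↥T ≤ n := by
  sorry

/-- TOP + FAM. -/
theorem dim_le {k : Type u} [Field k] [IsAlgClosed k] [CharZero k]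
    (f : LefPen.Form 4 k 3) (H : Over (Spec (CommRingCat.of k))) (Z : FGA.HilbSet (ps f) H)
    (hH : FGA.HilbRepresentedBy (ps f) H Z) {d : ℕ} (hd : 1 ≤ d) (n : ℕ) {ι : Type} [Finite ι]
    (R : ι → Type u) [∀ α, CommRing (R α)] [∀ α, Algebra k (R α)] [∀ α, Algebra.FiniteType k (R α)]
    (hdim : ∀ α, ringKrullDim (R α) ≤ n)
    (c : ∀ α, Fin (d + 1) → Fin 5 → R α) (hc : ∀ α, MvPolynomial.aeval (bf (c α)) f.1 = 0)
    (T : Set ↥H.left)
    (hT : ∀ x ∈ T, ∃ (α : ι) (m : R α →ₐ[k] k) (h : pt k ⟶ H) (i : CohB1.ProjSpace 1 k ⟶ Xf f),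
      IsClosedImmersion i ∧ IsPar f d (fun a j => m (c α a j)) i ∧
        x = h.left.base (IsLocalRing.closedPoint k) ∧
        FGA.hilbPull (ps f) h Z.1 = i.ker.comap (pullback.fst (ps f) (pt k).hom)) :
    topologicalKrullDim ↥T ≤ n := by
  sorry

/-- REPAR: change of the parameter. -/
theorem repar {k : Type u} [Field k] [Infinite k] (f : LefPen.Form 4 k 3) {d : ℕ} (hd : 1 ≤ d)
    (c c' : Fin (d + 1) → Fin 5 → k) (γ : Matrix (Fin 2) (Fin 2) k) (hγ : γ.det ≠ 0)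
    (h : ∀ s t : k, cpt c' s t = cpt c (γ 0 0 * s + γ 0 1 * t) (γ 1 0 * s + γ 1 1 * t))
    (i : CohB1.ProjSpace 1 k ⟶ Xf f) [IsClosedImmersion i] (hi : IsPar f d c i) :
    ∃ i' : CohB1.ProjSpace 1 k ⟶ Xf f, IsClosedImmersion i' ∧ IsPar f d c' i' ∧ i'.ker = i.ker := by
  sorry

end Groth.Agent.Fano.K51.PlanT
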